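import Cfsg.Agent.Lib.Steiner.Code

/-! Abstract Golay codes as submodules. -/

set_option autoImplicit false
set_option linter.unusedSectionVars false
set_option linter.unusedVariables false

namespace Cfsg.Agent.Steiner

open Finset Cfsg.Agent.Spor Cfsg.Agent.PC
open scoped Pointwise symmDiff

variable {α : Type*} [Fintype α] [DecidableEq α]

theorem mem_support₂ {w : α → ZMod 2} {a : α} : a ∈ support₂ w ↔ w a ≠ 0 := by simp [support₂]

theorem support_add (v w : α → ZMod 2) : support₂ (v + w) = support₂ v ∆ support₂ w := by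
  ext a
  simp only [mem_symmDiff, mem_support₂, Pi.add_apply]
  generalize v a = x; generalize w a = y; revert x y; decide

theorem support_sub (v w : α → ZMod 2) : support₂ (v - w) = support₂ v ∆ support₂ w := by
  ext a
  simp only [mem_symmDiff, mem_support₂, Pi.sub_apply]
  generalize v a = x; generalize w a = y; revert x y; decide

theorem support_zero : support₂ (0 : α → ZMod 2) = ∅ := by ext a; simp [mem_support₂]

theorem exists_support (s : Finset α) : ∃ w : α → ZMod 2, support₂ w = s :=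
  ⟨fun a => if a ∈ s then 1 else 0, by ext a; simp [mem_support₂]⟩

theorem sum_mul_eq (v w : α → ZMod 2) :
    ∑ i, v i * w i = ((support₂ v ∩ support₂ w).card : ZMod 2) := by
  have : support₂ v ∩ support₂ w = univ.filter fun i => v i ≠ 0 ∧ w i ≠ 0 := by
    ext a; simp [mem_support₂]
  rw [this, card_filter, Nat.cast_sum]
  refine Finset.sum_congr rfl fun p _ => ?_
  generalize v p = x; generalize w p = y; revert x y; decide

theorem support_mem {C : Set (α → ZMod 2)} {w : α → ZMod 2} : support₂ w ∈ supports C ↔ w ∈ C :=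
  ⟨fun ⟨v, hv, h⟩ => support_inj h ▸ hv, fun h => ⟨w, h, rfl⟩⟩

theorem supports_xor (C : Submodule (ZMod 2) (α → ZMod 2)) :
    ∀ a ∈ supports (C : Set (α → ZMod 2)), ∀ b ∈ supports (C : Set (α → ZMod 2)),
      a ∆ b ∈ supports (C : Set (α → ZMod 2)) := by
  rintro _ ⟨v, hv, rfl⟩ _ ⟨w, hw, rfl⟩
  exact ⟨v + w, C.add_mem hv hw, support_add v w⟩

theorem supports_emp (C : Submodule (ZMod 2) (α → ZMod 2)) : ∅ ∈ supports (C : Set (α → ZMod 2)) :=
  ⟨0, C.zero_mem, support_zero⟩

theorem support_comp {β : Type*} [Fintype β] [DecidableEq β] (e : α ≃ β) (w : β → ZMod 2) :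
    (support₂ fun i => w (e i)).image e = support₂ w := by
  ext b
  obtain ⟨a, rfl⟩ := e.surjective b
  simp [mem_support₂]

theorem gol_sub (hα : Fintype.card α = 24) (C : Submodule (ZMod 2) (α → ZMod 2))
    (hdim : Module.finrank (ZMod 2) C = 12) (horth : ∀ v ∈ C, ∀ w ∈ C, ∑ i, v i * w i = 0)
    (hmin : ∀ w ∈ C, w ≠ 0 → 8 ≤ hammingNorm w) : Gol (supports (C : Set (α → ZMod 2))) := by
  refine gol_of hα (supports_emp C) (supports_xor C) ?_ ?_ ?_
  · rintro _ ⟨v, hv, rfl⟩ _ ⟨w, hw, rfl⟩
    have := horth v hv w hw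
    rw [sum_mul_eq, ZMod.natCast_eq_zero_iff] at this
    exact even_iff_two_dvd.mpr this
  · rintro _ ⟨v, hv, rfl⟩ h
    rw [← hammingNorm_eq]
    exact hmin v hv (by rintro rfl; exact h support_zero)
  · rw [supports, Set.ncard_image_of_injective _ fun _ _ => support_inj, ← Nat.card_coe_set_eq]
    have := Module.natCard_eq_pow_finrank (K := ZMod 2) (V := C)
    rw [hdim, Nat.card_zmod] at this
    exact this.ge

theorem code_unique (hα : Fintype.card α = 24) (C : Submodule (ZMod 2) (α → ZMod 2))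
    (hdim : Module.finrank (ZMod 2) C = 12) (horth : ∀ v ∈ C, ∀ w ∈ C, ∑ i, v i * w i = 0)
    (hmin : ∀ w ∈ C, w ≠ 0 → 8 ≤ hammingNorm w) :
    ∃ e : α ≃ GolayPt, ∀ w, w ∈ C ↔ (support₂ w).image e ∈ gC := by
  obtain ⟨e, he⟩ := (gol_sub hα C hdim horth hmin).unique hα
  exact ⟨e, fun w => by rw [← he, support_mem]; rfl⟩

end Cfsg.Agent.Steiner
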