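import Cfsg.Agent.Lib.Steiner.Uniq

/-! Sphere packing, Gauss sums and the embedding of partial Witt systems in the Golay code. -/

set_option autoImplicit false
set_option linter.unusedSectionVars false
set_option linter.unusedVariables false

namespace Cfsg.Agent.Steiner

open Finset Cfsg.Agent.Spor Cfsg.Agent.PC
open scoped Pointwise symmDiff

variable {α : Type*} [Fintype α] [DecidableEq α]

theorem card_small (s : Finset α) (hs : s.card = 23) : (s.powerset.filter (·.card ≤ 3)).card = 2048 := by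
  have : s.powerset.filter (·.card ≤ 3) = (range 4).biUnion (fun i => powersetCard i s) := by
    ext u; simp [mem_powersetCard, Nat.lt_succ_iff, and_comm]
  rw [this, card_biUnion]
  · simp only [card_powersetCard, hs]; decide
  · intro i _ j _ hij
    exact Finset.pairwise_disjoint_powersetCard s hij

theorem symmDiff_erase (a b : Finset α) (p : α) : (a.erase p) ∆ (b.erase p) = (a ∆ b).erase p := by
  ext x; simp only [mem_symmDiff, mem_erase]; tauto

theorem card_symmDiff_le (a b : Finset α) : (a ∆ b).card ≤ a.card + b.card := by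
  have := card_symmDiff' a b; omega

/-- perfectness of the punctured code -/
theorem sphere (hα : Fintype.card α = 24) {C : Set (Finset α)} (hx : ∀ a ∈ C, ∀ b ∈ C, a ∆ b ∈ C)
    (hm : ∀ a ∈ C, a ≠ ∅ → 8 ≤ a.card) (p : α) : C.ncard ≤ 4096 ∧
      (4096 ≤ C.ncard → ∀ s ⊆ univ.erase p, ∃ c ∈ C, ∃ u ⊆ univ.erase p, u.card ≤ 3 ∧ c.erase p ∆ u = s) := by
  classical
  have h23 : (univ.erase p).card = 23 := by rw [card_erase_of_mem (mem_univ p), card_univ, hα]
  set S := C.toFinset ×ˢ ((univ.erase p).powerset.filter (·.card ≤ 3)) with hS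
  have hc : S.card = C.ncard * 2048 := by
    rw [hS, card_product, card_small _ h23, Set.ncard_eq_toFinset_card']
  let f : Finset α × Finset α → Finset α := fun x => x.1.erase p ∆ x.2
  have hinj : Set.InjOn f S := by
    rintro ⟨c, u⟩ h1 ⟨c', u'⟩ h2 h
    simp only [hS, coe_product, Set.mem_prod, mem_coe, Set.mem_toFinset, mem_filter, mem_powerset] at h1 h2
    have h' : c.erase p ∆ u = c'.erase p ∆ u' := h
    have e : (c ∆ c').erase p = u ∆ u' := by
      rw [← symmDiff_erase]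
      calc c.erase p ∆ c'.erase p = (c.erase p ∆ u) ∆ (c'.erase p ∆ u') ∆ (u ∆ u') := by
            ext x; simp only [mem_symmDiff]; tauto
        _ = u ∆ u' := by rw [h', symmDiff_self, bot_symmDiff]
    have h3 : c ∆ c' = ∅ := by
      by_contra h3
      have h4 := hm _ (hx _ h1.1 _ h2.1) h3
      have h5 := card_symmDiff_le u u'
      have h6 := pred_card_le_card_erase (s := c ∆ c') (a := p)
      rw [e] at h6; omega
    have h4 : c = c' := symmDiff_eq_bot.mp h3
    subst h4
    rw [symmDiff_right_inj.mp h']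
  have hmaps : Set.MapsTo f S (univ.erase p).powerset := by
    rintro ⟨c, u⟩ h1
    simp only [hS, coe_product, Set.mem_prod, mem_coe, Set.mem_toFinset, mem_filter, mem_powerset] at h1 ⊢
    exact symmDiff_le_sup.trans (union_subset (erase_subset_erase _ (subset_univ _)) h1.2.1)
  have hP : (univ.erase p).powerset.card = 4096 * 2048 := by rw [card_powerset, h23]; norm_num
  have hle := card_le_card_of_injOn f hmaps hinj
  refine ⟨by omega, fun h s hs => ?_⟩
  obtain ⟨⟨c, u⟩, h1, h2⟩ := surjOn_of_injOn_of_card_le f hmaps hinj (by omega) (mem_coe.mpr (mem_powerset.mpr hs))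
  simp only [hS, coe_product, Set.mem_prod, mem_coe, Set.mem_toFinset, mem_filter, mem_powerset] at h1
  exact ⟨c, h1.1, u, h1.2.1, h1.2.2, h2⟩

theorem sphere_st (hα : Fintype.card α = 24) {C : Set (Finset α)} (hx : ∀ a ∈ C, ∀ b ∈ C, a ∆ b ∈ C)
    (hm : ∀ a ∈ C, a ≠ ∅ → 8 ≤ a.card) (h : 4096 ≤ C.ncard) (s : Finset α) (hs : s.card = 5) :
    ∃ o ∈ C, o.card = 8 ∧ s ⊆ o := by
  obtain ⟨p, hp⟩ : s.Nonempty := card_pos.mp (by omega)
  obtain ⟨c, hc, u, -, hu, e⟩ := (sphere hα hx hm p).2 h (s.erase p) (erase_subset_erase _ (subset_univ _))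
  have e2 : c.erase p = s.erase p ∆ u := by rw [← e, symmDiff_assoc, symmDiff_self, symmDiff_bot]
  have h1 := card_symmDiff' (s.erase p) u
  have h2 := card_erase_of_mem hp
  have h3 := card_le_card (inter_subset_right (s₁ := s.erase p) (s₂ := u))
  have h4 : c ≠ ∅ := by
    rintro rfl
    rw [← e2] at h1; simp only [erase_empty, card_empty] at h1
    have := card_le_card (inter_subset_left (s₁ := s.erase p) (s₂ := u))
    omega
  have h5 := hm c hc h4
  rw [← e2] at h1
  have h6 : p ∈ c := by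
    by_contra h6; rw [erase_eq_of_notMem h6] at h1; omega
  have h7 := card_erase_of_mem h6
  have h8 : s.erase p ∩ u = ∅ := card_eq_zero.mp (by omega)
  refine ⟨c, hc, by omega, fun x hx => ?_⟩
  by_cases hxp : x = p
  · exact hxp ▸ h6
  · have h9 : x ∈ s.erase p := mem_erase.mpr ⟨hxp, hx⟩
    have : x ∈ c.erase p := by
      rw [e2, mem_symmDiff]
      exact Or.inl ⟨h9, fun h => by simpa [h8] using mem_inter.mpr ⟨h9, h⟩⟩
    exact mem_of_mem_erase this

theorem even_of_de {a b : Finset α} (ha : 4 ∣ a.card) (hb : 4 ∣ b.card) (h : 4 ∣ (a ∆ b).card) :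
    Even (a ∩ b).card := by
  have := card_symmDiff' a b
  rw [Nat.even_iff]; omega

theorem de_symmDiff {a b : Finset α} (ha : 4 ∣ a.card) (hb : 4 ∣ b.card) (h : Even (a ∩ b).card) :
    4 ∣ (a ∆ b).card := by
  have := card_symmDiff' a b
  rw [Nat.even_iff] at h; omega

theorem sum_char (D : Finset (Finset α)) (hx : ∀ a ∈ D, ∀ b ∈ D, a ∆ b ∈ D) (w : Finset α) :
    ∑ v ∈ D, (-1 : ℂ) ^ (w ∩ v).card = if ∀ v ∈ D, Even (w ∩ v).card then (D.card : ℂ) else 0 := by
  split_ifs with h
  · rw [Finset.sum_congr rfl fun v hv => (h v hv).neg_one_pow]; simp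
  · push Not at h
    obtain ⟨v0, hv0, h⟩ := h
    refine Finset.sum_involution (fun v _ => v ∆ v0) (fun v hv => ?_) (fun v hv _ h' => ?_)
      (fun v hv => hx _ hv _ hv0) (fun v _ => by rw [symmDiff_assoc, symmDiff_self, symmDiff_bot])
    · have e : w ∩ (v ∆ v0) = (w ∩ v) ∆ (w ∩ v0) := inf_symmDiff_distrib_left w v v0
      have h1 := card_symmDiff' (w ∩ v) (w ∩ v0)
      rw [← e] at h1
      rw [Nat.even_iff] at h
      rcases Nat.even_or_odd (w ∩ v).card with h2 | h2
      · rw [h2.neg_one_pow, Odd.neg_one_pow (by rw [Nat.even_iff] at h2; rw [Nat.odd_iff]; omega)]; simp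
      · rw [h2.neg_one_pow, Even.neg_one_pow (by rw [Nat.odd_iff] at h2; rw [Nat.even_iff]; omega)]; simp
    · have : v0 = ⊥ := symmDiff_eq_left.mp h'
      rw [this] at h; simp at h

theorem four_tr (hα : Fintype.card α = 24) (v : Finset α) (hv : 4 ∣ v.card) :
    ∑ w : Finset α, Complex.I ^ w.card * (-1 : ℂ) ^ (w ∩ v).card = 4096 := by
  have h := Finset.prod_one_add (f := fun x => Complex.I * (if x ∈ v then -1 else 1)) (univ : Finset α)
  rw [powerset_univ] at h
  have e : ∀ w : Finset α, ∏ x ∈ w, Complex.I * (if x ∈ v then -1 else 1) =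
      Complex.I ^ w.card * (-1 : ℂ) ^ (w ∩ v).card := by
    intro w
    rw [prod_mul_distrib, prod_const, prod_ite, prod_const, prod_const_one, mul_one, filter_mem_eq_inter]
  simp only [e] at h
  rw [← h]
  have e2 : ∀ x, (1 + Complex.I * (if x ∈ v then -1 else 1)) = if x ∈ v then 1 - Complex.I else 1 + Complex.I := by
    intro x; split_ifs <;> ring
  simp only [e2]
  rw [prod_ite, prod_const, prod_const, filter_mem_eq_inter, univ_inter]
  have e3 : (univ.filter fun x => x ∉ v) = vᶜ := by ext; simp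
  have h24 : v.card ≤ 24 := hα ▸ card_le_univ v
  obtain ⟨k, hk⟩ := hv
  rw [e3, card_compl, hα, hk, show 24 - 4 * k = 4 * (6 - k) by omega, pow_mul, pow_mul]
  have a1 : (1 - Complex.I) ^ 4 = -4 := by
    have : (1 - Complex.I) ^ 4 = 1 - 4 * Complex.I + 6 * Complex.I ^ 2 - 4 * Complex.I * Complex.I ^ 2 +
      (Complex.I ^ 2) ^ 2 := by ring
    rw [this, Complex.I_sq]; ring
  have a2 : (1 + Complex.I) ^ 4 = -4 := by
    have : (1 + Complex.I) ^ 4 = 1 + 4 * Complex.I + 6 * Complex.I ^ 2 + 4 * Complex.I * Complex.I ^ 2 +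
      (Complex.I ^ 2) ^ 2 := by ring
    rw [this, Complex.I_sq]; ring
  rw [a1, a2, ← pow_add, show k + (6 - k) = 6 by omega]; norm_num

theorem re_I_pow (n : ℕ) : (Complex.I ^ n).re ≤ if 4 ∣ n then 1 else 0 := by
  rw [Complex.I_pow_eq_pow_mod]
  have h : n % 4 < 4 := Nat.mod_lt _ (by norm_num)
  simp only [Nat.dvd_iff_mod_eq_zero]
  generalize n % 4 = r at h
  interval_cases r <;> simp [pow_succ]

theorem gauss (hα : Fintype.card α = 24) (D : Finset (Finset α)) (h0 : ∅ ∈ D)
    (hx : ∀ a ∈ D, ∀ b ∈ D, a ∆ b ∈ D) (h4 : ∀ a ∈ D, 4 ∣ a.card) :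
    4096 ≤ (univ.filter fun w : Finset α => (∀ v ∈ D, Even (w ∩ v).card) ∧ 4 ∣ w.card).card := by
  have h1 : ∑ v ∈ D, ∑ w : Finset α, Complex.I ^ w.card * (-1 : ℂ) ^ (w ∩ v).card = D.card * 4096 := by
    rw [Finset.sum_congr rfl fun v hv => four_tr hα v (h4 v hv)]; simp
  rw [sum_comm] at h1
  simp only [← mul_sum, sum_char D hx, mul_ite, mul_zero] at h1
  rw [← sum_filter, ← sum_mul, mul_comm] at h1
  have hD : (D.card : ℂ) ≠ 0 := by exact_mod_cast card_ne_zero_of_mem h0
  have h2 := congrArg Complex.re (mul_left_cancel₀ hD h1)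
  rw [Complex.re_sum] at h2
  have h3 := Finset.sum_le_sum (s := univ.filter fun w : Finset α => ∀ v ∈ D, Even (w ∩ v).card)
    fun w _ => re_I_pow w.card
  rw [h2, ← sum_filter, filter_filter] at h3
  simp only [sum_const, nsmul_eq_mul, mul_one] at h3
  norm_num at h3
  exact_mod_cast h3

/-- a doubly even self-orthogonal family lies in a doubly even code with at least `2 ^ 12` words -/
theorem exists_de (hα : Fintype.card α = 24) {B : Set (Finset α)} (h4 : ∀ a ∈ B, 4 ∣ a.card)
    (hev : ∀ a ∈ B, ∀ b ∈ B, Even (a ∩ b).card) :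
    ∃ D : Set (Finset α), B ⊆ D ∧ ∅ ∈ D ∧ (∀ a ∈ D, ∀ b ∈ D, a ∆ b ∈ D) ∧ (∀ a ∈ D, 4 ∣ a.card) ∧
      4096 ≤ D.ncard := by
  classical
  let G : Set (Set (Finset α)) := {D | ∅ ∈ D ∧ (∀ a ∈ D, ∀ b ∈ D, a ∆ b ∈ D) ∧ (∀ a ∈ D, 4 ∣ a.card) ∧
    ∀ a ∈ D, ∀ b ∈ B, Even (a ∩ b).card}
  obtain ⟨D, hD⟩ := (Set.toFinite G).exists_maximal ⟨{∅}, by simp [G]⟩
  obtain ⟨h0, hx, hd, hb⟩ := hD.prop
  have key : ∀ w : Finset α, 4 ∣ w.card → (∀ v ∈ D, Even (v ∩ w).card) → (∀ b ∈ B, Even (w ∩ b).card) →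
      w ∈ D := by
    intro w hw h1 h2
    refine hD.le_of_ge (y := {a | a ∈ D ∨ a ∆ w ∈ D}) ⟨Or.inl h0, ?_, ?_, ?_⟩ (fun a ha => Or.inl ha)
      (Or.inr (by rw [symmDiff_self]; exact h0))
    · rintro a (ha | ha) b (hb | hb)
      · exact Or.inl (hx _ ha _ hb)
      · right; rw [symmDiff_assoc]; exact hx _ ha _ hb
      · right; rw [symmDiff_right_comm]; exact hx _ ha _ hb
      · left
        have : a ∆ b = (a ∆ w) ∆ (b ∆ w) := by ext x; simp only [mem_symmDiff]; tauto
        rw [this]; exact hx _ ha _ hb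
    · rintro a (ha | ha)
      · exact hd a ha
      · have := de_symmDiff (hd _ ha) hw (h1 _ ha)
        rwa [symmDiff_assoc, symmDiff_self, symmDiff_bot] at this
    · rintro a (ha | ha) b hb'
      · exact hb a ha b hb'
      · have := even_symmDiff (hb _ ha b hb') (h2 b hb')
        rwa [symmDiff_assoc, symmDiff_self, symmDiff_bot] at this
  have hBD : B ⊆ D := fun b hb' => key b (h4 b hb') (fun v hv => hb v hv b hb') (hev b hb')
  refine ⟨D, hBD, h0, hx, hd, ?_⟩
  rw [Set.ncard_eq_toFinset_card']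
  refine (gauss hα D.toFinset (by simpa using h0) (by simpa using hx) (by simpa using hd)).trans
    (card_le_card fun w hw => ?_)
  simp only [mem_filter, mem_univ, true_and, Set.mem_toFinset] at hw ⊢
  exact key w hw.2 (fun v hv => inter_comm w v ▸ hw.1 v hv) fun b hb' => hw.1 b (hBD hb')

theorem gol_of {D : Set (Finset α)} (hα : Fintype.card α = 24) (h0 : ∅ ∈ D) (hx : ∀ a ∈ D, ∀ b ∈ D, a ∆ b ∈ D)
    (hev : ∀ a ∈ D, ∀ b ∈ D, Even (a ∩ b).card) (hm : ∀ a ∈ D, a ≠ ∅ → 8 ≤ a.card) (h : 4096 ≤ D.ncard) :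
    Gol D where
  emp := h0
  xor := hx
  ev := hev
  no4 a ha h4 := by
    have := hm a ha (by rintro rfl; simp at h4); omega
  st := sphere_st hα hx hm h

/-- blocks through a set `I` of at most three points of a (possibly absent) Witt system -/
structure PSt (I : Finset α) (B : Set (Finset α)) : Prop where
  le : I.card ≤ 3
  card : ∀ b ∈ B, b.card = 8
  sub : ∀ b ∈ B, I ⊆ b
  ex : ∀ s, I ⊆ s → s.card = 5 → ∃! b, b ∈ B ∧ s ⊆ b
  ev : ∀ a ∈ B, ∀ b ∈ B, Even (a ∩ b).card

theorem PSt.no4 (hα : Fintype.card α = 24) {I : Finset α} {B : Set (Finset α)} (h : PSt I B) {w : Finset α}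
    (hw : w.card = 4) (hev : ∀ b ∈ B, Even (w ∩ b).card) : False := by
  obtain ⟨J, hIJ, -, hJ⟩ := exists_subsuperset_card_eq (subset_univ I) h.le (by rw [card_univ, hα]; norm_num)
  have main : ∀ p ∉ J, (w \ insert p J).card ≤ 3 → ∃ b ∈ B, insert p J ⊆ b ∧ Disjoint (w \ insert p J) b := by
    intro p hp h3
    by_contra hc
    push Not at hc
    have hK : (insert p J).card = 4 := by rw [card_insert_of_notMem hp, hJ]
    have hq : ∀ q : α, ∃ b : Finset α, q ∉ insert p J → (b ∈ B ∧ insert q (insert p J) ⊆ b) ∧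
        ∀ c, c ∈ B ∧ insert q (insert p J) ⊆ c → c = b := by
      intro q
      by_cases hq : q ∈ insert p J
      · exact ⟨∅, fun h => absurd hq h⟩
      · obtain ⟨b, hb⟩ := h.ex (insert q (insert p J))
          (hIJ.trans ((subset_insert _ _).trans (subset_insert _ _))) (by rw [card_insert_of_notMem hq, hK])
        exact ⟨b, fun _ => hb⟩
    choose bl hbl using hq
    have hsub : (insert p J)ᶜ ⊆ (w \ insert p J).biUnion fun q => bl q \ insert p J := by
      intro r hr
      rw [mem_compl] at hr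
      obtain ⟨⟨h1, h2⟩, -⟩ := hbl r hr
      obtain ⟨q, hq1, hq2⟩ := not_disjoint_iff.mp (hc _ h1 ((subset_insert _ _).trans h2))
      refine mem_biUnion.mpr ⟨q, hq1, mem_sdiff.mpr ⟨?_, hr⟩⟩
      rw [← (hbl q (mem_sdiff.mp hq1).2).2 _ ⟨h1, insert_subset hq2 ((subset_insert _ _).trans h2)⟩]
      exact h2 (mem_insert_self _ _)
    have h5 := (card_le_card hsub).trans (card_biUnion_le_card_mul _ _ 4 fun q hq => by
      obtain ⟨⟨h1, h2⟩, -⟩ := hbl q (mem_sdiff.mp hq).2
      rw [card_sdiff_of_subset ((subset_insert _ _).trans h2), h.card _ h1, hK])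
    rw [card_compl, hα, hK] at h5
    omega
  have hwb : ∀ p b, insert p J ⊆ b → Disjoint (w \ insert p J) b → w ∩ b = w ∩ insert p J := by
    intro p b h1 h2
    ext x
    simp only [mem_inter, and_congr_right_iff]
    exact fun hx => ⟨fun hb => by_contra fun h3 => disjoint_left.mp h2 (mem_sdiff.mpr ⟨hx, h3⟩) hb, fun h3 => h1 h3⟩
  have hwJ := card_sdiff_add_card_inter w J
  have hle := card_le_card (inter_subset_right (s₁ := w) (s₂ := J))
  rcases Nat.even_or_odd (w ∩ J).card with he | he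
  · obtain ⟨p, hp⟩ : (w \ J).Nonempty := card_pos.mp (by omega)
    rw [mem_sdiff] at hp
    have e : w ∩ insert p J = insert p (w ∩ J) := inter_insert_of_mem hp.1
    have e2 : (w ∩ insert p J).card = (w ∩ J).card + 1 := by
      rw [e, card_insert_of_notMem (by simp [hp.2])]
    have := card_sdiff_add_card_inter w (insert p J)
    obtain ⟨b, hb, h1, h2⟩ := main p hp.2 (by omega)
    have h3 := hev b hb
    rw [hwb p b h1 h2, e2] at h3
    rw [Nat.even_iff] at he h3; omega
  · obtain ⟨p, hp⟩ : (w ∪ J)ᶜ.Nonempty := card_pos.mp (by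
      have := card_union_le w J
      rw [card_compl, hα]; omega)
    rw [mem_compl, mem_union, not_or] at hp
    have e : w ∩ insert p J = w ∩ J := inter_insert_of_notMem hp.1
    have := card_sdiff_add_card_inter w (insert p J)
    rw [Nat.odd_iff] at he
    obtain ⟨b, hb, h1, h2⟩ := main p hp.2 (by rw [e] at this; omega)
    have h3 := hev b hb
    rw [hwb p b h1 h2, e] at h3
    rw [Nat.even_iff] at h3; omega

theorem PSt.embed (hα : Fintype.card α = 24) {I : Finset α} {B : Set (Finset α)} (h : PSt I B) :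
    ∃ e : α ≃ GolayPt, ∀ b, b ∈ B ↔ b.image e ∈ octads ∧ I ⊆ b := by
  obtain ⟨D, hBD, h0, hx, hd, hc⟩ := exists_de hα (fun a ha => by rw [h.card a ha]; norm_num) h.ev
  have hev : ∀ a ∈ D, ∀ b ∈ D, Even (a ∩ b).card := fun a ha b hb =>
    even_of_de (hd a ha) (hd b hb) (hd _ (hx a ha b hb))
  have hG : Gol D := gol_of hα h0 hx hev (fun a ha hne => by
    have h1 := hd a ha
    have h2 : a.card ≠ 4 := fun h4 => h.no4 hα h4 fun b hb => hev a ha b (hBD hb)
    have h3 : a.card ≠ 0 := by simpa using hne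
    omega) hc
  obtain ⟨e, he⟩ := hG.unique hα
  have h1 : ∀ b ∈ B, b.image e ∈ octads := fun b hb =>
    mem_octads.mpr ⟨(he b).mp (hBD hb), by rw [card_image_of_injective _ e.injective, h.card b hb]⟩
  refine ⟨e, fun b => ⟨fun hb => ⟨h1 b hb, h.sub b hb⟩, fun ⟨hb, hI⟩ => ?_⟩⟩
  have h8 : b.card = 8 := by rw [← card_image_of_injective _ e.injective, (mem_octads.mp hb).2]
  obtain ⟨s, hs1, hs2, hs⟩ := exists_subsuperset_card_eq (n := 5) hI (by have := h.le; omega) (by omega)
  obtain ⟨c, ⟨hc1, hc2⟩, -⟩ := h.ex s hs1 hs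
  have : b.image e = c.image e := oct_eq hb (h1 c hc1) (by
    rw [← image_inter _ _ e.injective, card_image_of_injective _ e.injective, ← hs]
    exact card_le_card (subset_inter hs2 hc2))
  rw [image_injective e.injective this]; exact hc1

/-- `j` identifies `B` with the octads through `I` -/
structure Emb (B : Set (Finset α)) (I : Finset GolayPt) (j : α ↪ GolayPt) : Prop where
  rng : ∀ x, x ∈ Set.range j ↔ x ∉ I
  mem : ∀ b, b ∈ B ↔ b.map j ∪ I ∈ octads

theorem exists_emb_range {β : Type*} [Fintype β] [DecidableEq β] (I : Finset β)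
    (h : Fintype.card α + I.card = Fintype.card β) : ∃ j : α ↪ β, ∀ x, x ∈ Set.range j ↔ x ∉ I := by
  let e : α ≃ {x // x ∈ Iᶜ} := Fintype.equivOfCardEq (by rw [Fintype.card_coe, card_compl]; omega)
  refine ⟨e.toEmbedding.trans (Function.Embedding.subtype _), fun x => ⟨?_, fun hx => ?_⟩⟩
  · rintro ⟨a, rfl⟩; exact mem_compl.mp (e a).2
  · exact ⟨e.symm ⟨x, mem_compl.mpr hx⟩, by simp⟩

theorem map_disj {β : Type*} [DecidableEq β] {I : Finset β} {j : α ↪ β}
    (hj : ∀ x, x ∈ Set.range j ↔ x ∉ I) (b : Finset α) : Disjoint (b.map j) I := by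
  rw [disjoint_left]; intro x hx
  obtain ⟨a, -, rfl⟩ := mem_map.mp hx
  exact (hj _).mp ⟨a, rfl⟩

theorem exists_map {β : Type*} [DecidableEq β] {I : Finset β} {j : α ↪ β}
    (hj : ∀ x, x ∈ Set.range j ↔ x ∉ I) {s : Finset β} (hs : I ⊆ s) : ∃ b : Finset α, b.map j ∪ I = s := by
  refine ⟨univ.filter (j · ∈ s), ?_⟩
  ext x
  simp only [mem_union, mem_map, mem_filter, mem_univ, true_and]
  constructor
  · rintro (⟨a, h, rfl⟩ | h); exacts [h, hs h]
  · intro h
    by_cases hx : x ∈ I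
    · exact Or.inr hx
    · obtain ⟨a, rfl⟩ := (hj x).mpr hx; exact Or.inl ⟨a, h, rfl⟩

theorem map_union_subset {β : Type*} [DecidableEq β] {I : Finset β} {j : α ↪ β}
    (hj : ∀ x, x ∈ Set.range j ↔ x ∉ I) {a b : Finset α} : a.map j ∪ I ⊆ b.map j ∪ I ↔ a ⊆ b := by
  refine ⟨fun h x hx => ?_, fun h => union_subset_union_left (map_subset_map.mpr h)⟩
  rcases mem_union.mp (h (mem_union_left _ (mem_map_of_mem j hx))) with h | h
  · exact (mem_map' j).mp h
  · exact absurd h ((hj _).mp ⟨x, rfl⟩)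

theorem map_union_inj {β : Type*} [DecidableEq β] {I : Finset β} {j : α ↪ β}
    (hj : ∀ x, x ∈ Set.range j ↔ x ∉ I) {a b : Finset α} (h : a.map j ∪ I = b.map j ∪ I) : a = b :=
  subset_antisymm ((map_union_subset hj).mp h.le) ((map_union_subset hj).mp h.ge)

theorem card_map_union {β : Type*} [DecidableEq β] {I : Finset β} {j : α ↪ β}
    (hj : ∀ x, x ∈ Set.range j ↔ x ∉ I) (a : Finset α) : (a.map j ∪ I).card = a.card + I.card := by
  rw [card_union_of_disjoint (map_disj hj a), card_map]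

theorem map_union_inter {β : Type*} [DecidableEq β] {I : Finset β} (j : α ↪ β) (a b : Finset α) :
    (a.map j ∪ I) ∩ (b.map j ∪ I) = (a ∩ b).map j ∪ I := by
  rw [map_inter, inter_union_distrib_right]

theorem exists_emb {t : ℕ} {B : Set (Finset α)} (I : Finset GolayPt) (hI : I.card + t = 5) (ht : 2 ≤ t)
    (hα : Fintype.card α = t + 19) (hB : IsSteinerSystem t (t + 3) B)
    (hev : ∀ a ∈ B, ∀ b ∈ B, Even ((a ∩ b).card + I.card)) : ∃ j, Emb B I j := by
  obtain ⟨j, hj⟩ := exists_emb_range (α := α) I (by rw [card_golayPt]; omega)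
  have hP : PSt I {c | ∃ b ∈ B, b.map j ∪ I = c} := by
    refine ⟨by omega, ?_, ?_, ?_, ?_⟩
    · rintro _ ⟨b, hb, rfl⟩; rw [card_map_union hj, hB.1 b hb]; omega
    · rintro _ ⟨b, hb, rfl⟩; exact subset_union_right
    · intro s hs h5
      obtain ⟨u, rfl⟩ := exists_map hj hs
      rw [card_map_union hj] at h5
      obtain ⟨b, ⟨hb, hub⟩, hu⟩ := hB.2 u (by omega)
      refine ⟨_, ⟨⟨b, hb, rfl⟩, (map_union_subset hj).mpr hub⟩, ?_⟩
      rintro _ ⟨⟨c, hc, rfl⟩, h⟩
      rw [hu c ⟨hc, (map_union_subset hj).mp h⟩]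
    · rintro _ ⟨a, ha, rfl⟩ _ ⟨b, hb, rfl⟩
      rw [map_union_inter, card_map_union hj]; exact hev a ha b hb
  obtain ⟨e, he⟩ := hP.embed card_golayPt
  obtain ⟨g, hg⟩ := mapSet (s := I.image e) (t := I) (card_image_of_injective _ e.injective)
    (by rw [card_image_of_injective _ e.injective]; omega)
  let σ : Equiv.Perm GolayPt := (g : Equiv.Perm GolayPt) * (show Equiv.Perm GolayPt from e)
  have hσ : ∀ s : Finset GolayPt, σ • s = g • s.image e := fun s => mul_smul _ _ _
  have hσI : σ • I = I := by rw [hσ, hg]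
  refine ⟨j.trans σ.toEmbedding, fun x => ?_, fun b => ?_⟩
  · obtain ⟨y, rfl⟩ := σ.surjective x
    have h1 : σ y ∈ I ↔ y ∈ I := by
      conv_lhs => rw [← hσI]
      exact Finset.smul_mem_smul_finset_iff σ
    rw [h1, ← hj]
    exact ⟨fun ⟨a, ha⟩ => ⟨a, σ.injective ha⟩, fun ⟨a, ha⟩ => ⟨a, congrArg σ ha⟩⟩
  · have h1 : b.map (j.trans σ.toEmbedding) ∪ I = σ • (b.map j ∪ I) := by
      rw [smul_finset_union, hσI, ← map_map, smul_eq_image, map_eq_image]; rfl
    rw [h1, hσ, smul_mem_octads]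
    have h2 := he (b.map j ∪ I)
    simp only [subset_union_right, and_true, Set.mem_setOf_eq] at h2
    rw [← h2]
    exact ⟨fun hb => ⟨b, hb, rfl⟩, fun ⟨c, hc, h⟩ => map_union_inj hj h ▸ hc⟩

theorem iso_of_iff {β : Type*} [Fintype β] [DecidableEq β] {B : Set (Finset α)} {B' : Set (Finset β)}
    (e : α ≃ β) (h : ∀ b, b ∈ B ↔ b.image e ∈ B') : SetSystemIso B B' := by
  refine ⟨e, Set.Subset.antisymm ?_ fun c hc => ?_⟩
  · rintro _ ⟨b, hb, rfl⟩; exact (h b).mp hb
  · have : (c.image e.symm).image e = c := by rw [image_image, Equiv.self_comp_symm, image_id]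
    exact ⟨c.image e.symm, (h _).mpr (this.symm ▸ hc), this⟩

theorem exists_equiv_range {β γ : Type*} (j : α ↪ γ) (j' : β ↪ γ) (h : Set.range j = Set.range j') :
    ∃ e : α ≃ β, ∀ a, j' (e a) = j a :=
  ⟨(Equiv.ofInjective j j.injective).trans ((Equiv.setCongr h).trans (Equiv.ofInjective j' j'.injective).symm),
    fun a => Equiv.apply_ofInjective_symm j'.injective _⟩

theorem Emb.iso {β : Type*} [Fintype β] [DecidableEq β] {B : Set (Finset α)} {B' : Set (Finset β)}
    {I : Finset GolayPt} {j : α ↪ GolayPt} {j' : β ↪ GolayPt} (h : Emb B I j) (h' : Emb B' I j') :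
    SetSystemIso B B' := by
  obtain ⟨e, he⟩ := exists_equiv_range j j' (by ext x; rw [h.rng, h'.rng])
  refine iso_of_iff e fun b => ?_
  rw [h.mem, h'.mem, map_eq_image, map_eq_image, image_image]
  have : (j' : β → GolayPt) ∘ e = j := funext he
  rw [this]

section
variable {B : Set (Finset α)}

theorem emb24 (hα : Fintype.card α = 24) (hB : IsSteinerSystem 5 8 B) : ∃ j, Emb B ∅ j :=
  exists_emb (t := 5) ∅ rfl (by norm_num) hα hB fun a ha b hb => by
    have := inter24 hα hB ha hb; rw [Nat.even_iff, card_empty]; omega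

theorem emb23 (hα : Fintype.card α = 23) (hB : IsSteinerSystem 4 7 B) {I : Finset GolayPt} (hI : I.card = 1) :
    ∃ j, Emb B I j :=
  exists_emb (t := 4) I (by omega) (by norm_num) hα hB fun a ha b hb => by
    have := inter23 hα hB ha hb; rw [Nat.even_iff]; omega

theorem emb22 (hα : Fintype.card α = 22) (hB : IsSteinerSystem 3 6 B) {I : Finset GolayPt} (hI : I.card = 2) :
    ∃ j, Emb B I j :=
  exists_emb (t := 3) I (by omega) (by norm_num) hα hB fun a ha b hb => by
    have := inter22 hα hB ha hb; rw [Nat.even_iff]; omega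

theorem emb21 (hα : Fintype.card α = 21) (hB : IsSteinerSystem 2 5 B) {I : Finset GolayPt} (hI : I.card = 3) :
    ∃ j, Emb B I j :=
  exists_emb (t := 2) I (by omega) (by norm_num) hα hB fun a ha b hb => by
    have := inter21 hα hB ha hb; rw [Nat.even_iff]; omega

end

end Cfsg.Agent.Steiner
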