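import Cfsg.Agent.Lib.Steiner.Code

/-! Automorphism groups of the large Witt systems. -/

set_option autoImplicit false
set_option linter.unusedSectionVars false
set_option linter.unusedVariables false

namespace Cfsg.Agent.Steiner

open Finset Cfsg.Agent.Spor Cfsg.Agent.PC MulAction Equiv
open scoped Pointwise symmDiff

variable {α : Type*} [Fintype α] [DecidableEq α] {B : Set (Finset α)} {I : Finset GolayPt} {j : α ↪ GolayPt}

theorem mem_aut_of {σ : Perm α} (h : ∀ b ∈ B, σ • b ∈ B) : σ ∈ setSystemAut B := by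
  rw [mem_stabilizer_iff]
  refine Set.eq_of_subset_of_ncard_le ?_ ?_ (Set.toFinite _)
  · rintro _ ⟨s, hs, rfl⟩; exact h s hs
  · rw [Set.ncard_smul_set]

theorem aut_smul {σ : Perm α} (h : σ ∈ setSystemAut B) {b : Finset α} (hb : b ∈ B) : σ • b ∈ B := by
  rw [← mem_stabilizer_iff.mp h]; exact Set.smul_mem_smul_set hb

theorem smul_map {β : Type*} [DecidableEq β] (j : α ↪ β) {σ : Perm α} {g : Perm β} (h : ∀ a, j (σ a) = g (j a))
    (b : Finset α) : (σ • b).map j = g • b.map j := by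
  rw [map_eq_image, map_eq_image]
  show Finset.image j (Finset.image σ b) = Finset.image g (Finset.image j b)
  rw [image_image, image_image]; exact image_congr fun a _ => h a

theorem exists_restrict {β : Type*} [DecidableEq β] {I : Finset β} {j : α ↪ β}
    (hj : ∀ x, x ∈ Set.range j ↔ x ∉ I) {g : Perm β} (hg : g • I = I) :
    ∃ σ : Perm α, ∀ a, j (σ a) = g (j a) := by
  refine exists_equiv_range (j.trans g.toEmbedding) j ?_
  ext x
  obtain ⟨y, rfl⟩ := g.surjective x
  have h1 : g y ∈ I ↔ y ∈ I := by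
    conv_lhs => rw [← hg]
    exact Finset.smul_mem_smul_finset_iff g
  rw [hj, h1, ← hj]
  exact ⟨fun ⟨a, ha⟩ => ⟨a, g.injective ha⟩, fun ⟨a, ha⟩ => ⟨a, congrArg g ha⟩⟩

theorem Emb.restrict (h : Emb B I j) (g : M24) (hg : g • I = I) :
    ∃ σ ∈ setSystemAut B, ∀ a, j (σ a) = g • j a := by
  obtain ⟨σ, hσ⟩ := exists_restrict h.rng (g := g) hg
  refine ⟨σ, mem_aut_of fun b hb => ?_, hσ⟩
  rw [h.mem] at hb ⊢
  have : (σ • b).map j ∪ I = g • (b.map j ∪ I) := by
    rw [smul_finset_union, hg, smul_map j hσ]; rfl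
  rw [this]; exact (smul_mem_octads g).mpr hb

/-- extension by the identity -/
noncomputable abbrev ψ (j : α ↪ GolayPt) : Perm α →* Perm GolayPt := Perm.viaEmbeddingHom j

theorem ψ_j (σ : Perm α) (a : α) : ψ j σ (j a) = j (σ a) := Perm.viaEmbedding_apply σ j a

theorem Emb.ψ_fix (h : Emb B I j) (σ : Perm α) {x : GolayPt} (hx : x ∈ I) : ψ j σ x = x :=
  Perm.viaEmbedding_apply_of_notMem σ j x fun h' => (h.rng x).mp h' hx

theorem smul_eq_of_fix' {β : Type*} [DecidableEq β] {I : Finset β} {g : Perm β} (h : ∀ x ∈ I, g x = x) :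
    g • I = I := by
  show Finset.image g I = I
  rw [image_congr (g := id) fun x hx => h x hx, image_id]

theorem Emb.ψ_oct (h : Emb B I j) {σ : Perm α} (hσ : σ ∈ setSystemAut B) {o : Finset GolayPt}
    (ho : o ∈ octads) (hI : I ⊆ o) : ψ j σ • o ∈ octads := by
  obtain ⟨b, rfl⟩ := exists_map h.rng hI
  rw [smul_finset_union, smul_eq_of_fix' fun x hx => h.ψ_fix σ hx, ← smul_map j fun a => (ψ_j σ a).symm,
    ← h.mem]
  exact aut_smul hσ ((h.mem b).mpr ho)

theorem Emb.ext (h : Emb B I j) {g g' : Perm GolayPt} (h1 : ∀ a, g (j a) = g' (j a))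
    (h2 : ∀ x ∈ I, g x = g' x) : g = g' := by
  ext x
  by_cases hx : x ∈ I
  · rw [h2 x hx]
  · obtain ⟨a, rfl⟩ := (h.rng x).mpr hx; rw [h1 a]

theorem Emb.equiv (h : Emb B I j) (L : Subgroup M24) (hL : ∀ g : M24, g ∈ L ↔ ∀ x ∈ I, g • x = x) :
    Nonempty (L ≃* ↥(setSystemAut B ⊓ M24.comap (ψ j))) := by
  refine ⟨(toPerm (K := (setSystemAut B ⊓ M24.comap (ψ j)).map (ψ j)) fun g => ⟨?_, ?_⟩).trans
    (Subgroup.equivMapOfInjective _ _ (Perm.viaEmbeddingHom_injective j)).symm⟩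
  · rintro ⟨σ, ⟨-, h2⟩, rfl⟩
    exact ⟨h2, (hL _).mpr fun x hx => h.ψ_fix σ hx⟩
  · rintro ⟨hg, h2⟩
    rw [hL] at h2
    obtain ⟨σ, h3, h4⟩ := h.restrict ⟨g, hg⟩ (smul_eq_of_fix' h2)
    have : ψ j σ = g := h.ext (fun a => by rw [ψ_j, h4]; rfl) fun x hx => by
      rw [h.ψ_fix σ hx]; exact (h2 x hx).symm
    exact ⟨σ, ⟨h3, show ψ j σ ∈ M24 from this ▸ hg⟩, this⟩

theorem exists_fix (I : Finset GolayPt) {k : ℕ} (hk : k + I.card ≤ 5) (x y : Fin k → GolayPt)
    (hx : Function.Injective x) (hy : Function.Injective y) (hxI : ∀ i, x i ∉ I) (hyI : ∀ i, y i ∉ I) :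
    ∃ g : M24, (∀ p ∈ I, g • p = p) ∧ ∀ i, g • x i = y i := by
  let e : Fin (k + I.card) ≃ Fin k ⊕ I := Fintype.equivOfCardEq (by simp)
  have inj : ∀ x : Fin k → GolayPt, Function.Injective x → (∀ i, x i ∉ I) →
      Function.Injective (Sum.elim x (Subtype.val : I → GolayPt) ∘ e) := fun x hx hxI =>
    (hx.sumElim Subtype.val_injective fun a b h => hxI a (h ▸ b.2)).comp e.injective
  obtain ⟨g, hg⟩ := exists_tuple hk _ _ (inj x hx hxI) (inj y hy hyI)
  exact ⟨g, fun p hp => by simpa using hg (e.symm (Sum.inr ⟨p, hp⟩)),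
    fun i => by simpa using hg (e.symm (Sum.inl i))⟩

theorem Emb.trans (h : Emb B I j) {k : ℕ} (hk : k + I.card ≤ 5) :
    IsMultiplyPretransitive (setSystemAut B) α k := by
  rw [isMultiplyPretransitive_iff]
  intro x y
  obtain ⟨g, h1, h2⟩ := exists_fix I hk (j ∘ x) (j ∘ y) (j.injective.comp x.injective)
    (j.injective.comp y.injective) (fun i => (h.rng _).mp ⟨_, rfl⟩) (fun i => (h.rng _).mp ⟨_, rfl⟩)
  obtain ⟨σ, h3, h4⟩ := h.restrict g (smul_eq_of_fix' h1)
  refine ⟨⟨σ, h3⟩, Function.Embedding.ext fun i => j.injective ?_⟩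
  exact (h4 _).trans (h2 i)

def L22 : List ℕ := [13062145, 9347075, 11100169, 8966165, 10846245, 9506893, 14254209, 11731203, 12325377,
  10630149, 15747077]

theorem basis_sel : gBasis = [2, 6, 1, 10, 19, 35, 73, 130, 260, 514, 1027, 2051].map (sel (13938692 :: L22)) := by
  decide +kernel

theorem mem_M24_L {g : Perm GolayPt} (h : ∀ b ∈ 13938692 :: L22, g • bset b ∈ gC) : g ∈ M24 := by
  refine mem_M24_of_basis fun b hb => ?_
  rw [basis_sel] at hb
  obtain ⟨k, -, rfl⟩ := List.mem_map.mp hb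
  exact sel_induction (P := fun n => g • bset n ∈ gC) (by rw [bset_zero, smul_finset_empty]; exact empty_mem_gC)
    (fun a b ha hb => by rw [bset_xor, smul_symmDiff]; exact symmDiff_mem_gC ha hb) _ h k

theorem mem_gC_L {a : Finset GolayPt} (h : ∀ b ∈ 13938692 :: L22, Even (a ∩ bset b).card) : a ∈ gC := by
  refine mem_gC_of_even fun b hb => ?_
  rw [basis_sel] at hb
  obtain ⟨k, -, rfl⟩ := List.mem_map.mp hb
  exact sel_induction (P := fun n => Even (a ∩ bset n).card) (by simp [bset_zero])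
    (fun c b ha hb => by
      rw [bset_xor, inter_comm]; exact even_symmDiff (inter_comm a _ ▸ ha) (inter_comm a _ ▸ hb)) _ h k

theorem L_oct : ∀ b ∈ 13938692 :: L22, bset b ∈ octads := fun b hb => bset_oct (by revert b; decide +kernel)

theorem L_23 : ∀ b ∈ 13938692 :: L22, gp 23 ∈ bset b := fun b hb =>
  (gp_mem_bset (by norm_num)).mpr (by revert b; decide +kernel)

theorem L_0 : ∀ b ∈ L22, gp 0 ∈ bset b := fun b hb =>
  (gp_mem_bset (by norm_num)).mpr (by revert b; decide +kernel)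

theorem O_0 : gp 0 ∉ bset 13938692 := by rw [gp_mem_bset (by norm_num)]; decide +kernel

theorem Emb.aut_le (h : Emb B I j) (hI : I ⊆ {gp 23}) : setSystemAut B ≤ M24.comap (ψ j) := fun σ hσ =>
  mem_M24_L fun b hb => (h.ψ_oct hσ (L_oct b hb) (hI.trans (singleton_subset_iff.mpr (L_23 b hb)))).1

theorem Emb.equiv' (h : Emb B I j) (hI : I ⊆ {gp 23}) (L : Subgroup M24)
    (hL : ∀ g : M24, g ∈ L ↔ ∀ x ∈ I, g • x = x) : Nonempty (L ≃* setSystemAut B) := by
  obtain ⟨e⟩ := h.equiv L hL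
  exact ⟨e.trans (MulEquiv.subgroupCongr (inf_eq_left.mpr (h.aut_le hI)))⟩

def τ0 : Perm GolayPt := swap (gp 23) (gp 0)

theorem swap_smul {β : Type*} [DecidableEq β] {p q : β} {s : Finset β} (hp : p ∈ s) (hq : q ∉ s) :
    swap p q • s = s ∆ {p, q} := by
  ext y
  obtain ⟨x, rfl⟩ := (swap p q).surjective y
  have hpq : p ≠ q := fun h => hq (h ▸ hp)
  rw [show swap p q x ∈ swap p q • s ↔ x ∈ s from Finset.smul_mem_smul_finset_iff (swap p q)]
  by_cases h1 : x = p
  · subst h1; simp [mem_symmDiff, hp, hq]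
  by_cases h2 : x = q
  · subst h2; simp [mem_symmDiff, hp, hq]
  · simp [swap_apply_of_ne_of_ne h1 h2, mem_symmDiff, h1, h2]

theorem swap_smul' {β : Type*} [DecidableEq β] {p q : β} {s : Finset β} (hp : p ∈ s) (hq : q ∈ s) :
    swap p q • s = s := by
  ext y
  obtain ⟨x, rfl⟩ := (swap p q).surjective y
  rw [show swap p q x ∈ swap p q • s ↔ x ∈ s from Finset.smul_mem_smul_finset_iff (swap p q)]
  by_cases h1 : x = p
  · subst h1; simp [hp, hq]
  by_cases h2 : x = q
  · subst h2; simp [hp, hq]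
  · simp [swap_apply_of_ne_of_ne h1 h2]

theorem gp_ne : gp 23 ≠ gp 0 := by decide

theorem τ0_not : τ0 ∉ M24 := fun h => by
  have h1 := (L_oct _ List.mem_cons_self).1
  have h2 := symmDiff_mem_gC h1 (smul_mem_gC h h1)
  rw [τ0, swap_smul (L_23 _ List.mem_cons_self) O_0, ← symmDiff_assoc, symmDiff_self, bot_symmDiff] at h2
  have := card_of_mem_gC h2
  rw [card_pair gp_ne] at this; omega

theorem card_smul_inter (g : Perm GolayPt) (a b : Finset GolayPt) :
    (g • a ∩ b).card = (a ∩ g⁻¹ • b).card := by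
  rw [← card_smul_finset g (a ∩ _), smul_finset_inter, smul_inv_smul]

theorem Emb.or22 (h : Emb B {gp 23, gp 0} j) {σ : Perm α} (hσ : σ ∈ setSystemAut B) :
    τ0 * ψ j σ ∈ M24 ∨ ψ j σ ∈ M24 := by
  have hI : ∀ b ∈ L22, ({gp 23, gp 0} : Finset GolayPt) ⊆ bset b := fun b hb =>
    insert_subset (L_23 b (List.mem_cons_of_mem _ hb)) (singleton_subset_iff.mpr (L_0 b hb))
  have hO := L_oct _ List.mem_cons_self
  have h1 : ∀ b ∈ L22, Even (ψ j σ • bset 13938692 ∩ bset b).card := fun b hb => by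
    rw [card_smul_inter, ← map_inv]
    exact even_gC hO.1 (h.ψ_oct (inv_mem hσ) (L_oct b (List.mem_cons_of_mem _ hb)) (hI b hb)).1
  have h2 : ∀ b ∈ L22, ψ j σ • bset b ∈ octads := fun b hb =>
    h.ψ_oct hσ (L_oct b (List.mem_cons_of_mem _ hb)) (hI b hb)
  have m23 : ∀ s : Finset GolayPt, gp 23 ∈ ψ j σ • s ↔ gp 23 ∈ s := fun s => by
    conv_lhs => rw [← h.ψ_fix σ (x := gp 23) (by simp)]
    exact Finset.smul_mem_smul_finset_iff (ψ j σ)
  have m0 : ∀ s : Finset GolayPt, gp 0 ∈ ψ j σ • s ↔ gp 0 ∈ s := fun s => by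
    conv_lhs => rw [← h.ψ_fix σ (x := gp 0) (by simp)]
    exact Finset.smul_mem_smul_finset_iff (ψ j σ)
  rcases Nat.even_or_odd (ψ j σ • bset 13938692 ∩ bset 13938692).card with he | he
  · right
    refine mem_M24_L fun b hb => ?_
    rcases List.mem_cons.mp hb with rfl | hb
    · exact mem_gC_L fun c hc => by
        rcases List.mem_cons.mp hc with rfl | hc
        exacts [he, h1 c hc]
    · exact (h2 b hb).1
  · left
    refine mem_M24_L fun b hb => ?_
    rcases List.mem_cons.mp hb with rfl | hb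
    · rw [mul_smul, τ0, swap_smul ((m23 _).mpr (L_23 _ List.mem_cons_self)) (mt (m0 _).mp O_0)]
      refine mem_gC_L fun c hc => ?_
      rcases List.mem_cons.mp hc with rfl | hc
      · have e : (ψ j σ • bset 13938692) ∆ {gp 23, gp 0} ∩ bset 13938692 = _ :=
          inf_symmDiff_distrib_right _ _ _
        have e2 : ({gp 23, gp 0} : Finset GolayPt) ∩ bset 13938692 = {gp 23} := by
          rw [insert_inter_of_mem (L_23 _ List.mem_cons_self), singleton_inter_of_notMem O_0]; rfl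
        have h3 := card_symmDiff' (ψ j σ • bset 13938692 ∩ bset 13938692) ({gp 23, gp 0} ∩ bset 13938692)
        rw [e]
        simp only [inf_eq_inter]
        rw [e2] at h3 ⊢
        rw [card_singleton] at h3
        rw [Nat.odd_iff] at he; rw [Nat.even_iff]; omega
      · refine even_symmDiff (h1 c hc) ?_
        rw [inter_eq_left.mpr (hI c hc), card_pair gp_ne]; decide
    · rw [mul_smul, τ0, swap_smul' ((m23 _).mpr (L_23 _ (List.mem_cons_of_mem _ hb))) ((m0 _).mpr (L_0 b hb))]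
      exact (h2 b hb).1

theorem Emb.index22 (h : Emb B {gp 23, gp 0} j) :
    ((M24.comap (ψ j)).subgroupOf (setSystemAut B)).index = 2 := by
  obtain ⟨g, h1, h2⟩ := map2 gp_ne gp_ne.symm
  obtain ⟨σ, h3, h4⟩ := h.restrict g (by
    rw [smul_finset_insert, smul_finset_singleton, h1, h2, pair_comm])
  have e : ψ j σ = g * τ0 := h.ext (fun a => by
      have := (h.rng (j a)).mp ⟨a, rfl⟩
      simp only [mem_insert, mem_singleton, not_or] at this
      rw [ψ_j, h4, Perm.mul_apply, τ0, swap_apply_of_ne_of_ne this.1 this.2]; rfl) fun x hx => by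
    rw [h.ψ_fix σ hx, Perm.mul_apply, τ0]
    rcases mem_insert.mp hx with rfl | hx
    · rw [swap_apply_left]; exact h2.symm
    · rw [mem_singleton.mp hx, swap_apply_right]; exact h1.symm
  rw [Subgroup.index_eq_two_iff']
  refine ⟨⟨σ, h3⟩, fun b => ?_⟩
  simp only [Subgroup.mem_subgroupOf, Subgroup.mem_comap, Subgroup.coe_mul, map_mul, e, mul_assoc,
    Subgroup.mul_mem_cancel_left _ g.2]
  have hn : ¬ (τ0 * ψ j b ∈ M24 ∧ ψ j b ∈ M24) := fun ⟨h5, h6⟩ =>
    τ0_not ((Subgroup.mul_mem_cancel_right _ h6).mp h5)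
  have := h.or22 b.2
  unfold Xor; tauto

end Cfsg.Agent.Steiner
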