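import Cfsg.Agent.Lib.Steiner.Code

/-! The graphs on 77 and 100 vertices attached to `S(3, 6, 22)`. -/

set_option autoImplicit false
set_option linter.unusedSectionVars false
set_option linter.unusedVariables false

namespace Cfsg.Agent.Steiner

open Finset

variable {α : Type*} [Fintype α] [DecidableEq α] {B : Set (Finset α)}

theorem sum_inter (T : Finset (Finset α)) (S : Finset α) :
    ∑ d ∈ T, (d ∩ S).card = ∑ x ∈ S, (T.filter (x ∈ ·)).card := by
  simp only [card_filter]
  rw [sum_comm]
  refine sum_congr rfl fun d _ => ?_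
  rw [← card_filter, filter_mem_eq_inter, inter_comm]

theorem blks_filter (P Q : Finset α → Prop) [DecidablePred Q] :
    (blks B P).filter Q = blks B fun c => P c ∧ Q c := by
  ext c; simp [mem_blks, and_assoc]

theorem lam22' (hα : Fintype.card α = 22) (hB : IsSteinerSystem 3 6 B) (s : Finset α) (hs : s.card ≤ 3) :
    (blks B (s ⊆ ·)).card = lam22 s.card := st_lam hB hα lam22 (by decide) s hs

theorem n77 (hα : Fintype.card α = 22) (hB : IsSteinerSystem 3 6 B) : (blks B fun _ => True).card = 77 := by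
  have := lam22' hα hB ∅ (by simp)
  rwa [blks_congr (Q := fun _ => True) (by simp)] at this

theorem n21 (hα : Fintype.card α = 22) (hB : IsSteinerSystem 3 6 B) (p : α) : (blks B (p ∈ ·)).card = 21 := by
  have := lam22' hα hB {p} (by simp)
  rwa [blks_congr (Q := (p ∈ ·)) (by simp)] at this

theorem n5 (hα : Fintype.card α = 22) (hB : IsSteinerSystem 3 6 B) {p q : α} (h : p ≠ q) :
    (blks B fun d => p ∈ d ∧ q ∈ d).card = 5 := by
  have := lam22' hα hB {p, q} (by rw [card_pair h]; norm_num)
  rwa [blks_congr (Q := fun d => p ∈ d ∧ q ∈ d) (by simp [insert_subset_iff]), card_pair h] at this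

theorem n16 (hα : Fintype.card α = 22) (hB : IsSteinerSystem 3 6 B) {b : Finset α} (hb : b ∈ B) :
    (blks B (Disjoint b ·)).card = 16 := by
  rw [blks_congr (Q := (b ∩ · = ∅)) fun c _ => disjoint_iff_inter_eq_empty, tri22 hα hB hb ∅ (empty_subset _),
    card_empty]
  rfl

theorem two_or (hα : Fintype.card α = 22) (hB : IsSteinerSystem 3 6 B) {b c : Finset α} (hb : b ∈ B)
    (hc : c ∈ B) (h : c ≠ b) : (c ∩ b).card = if Disjoint b c then 0 else 2 := by
  have h1 := inter22 hα hB hc hb
  have h2 := st_lt hB hc hb h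
  split_ifs with h3
  · rw [card_eq_zero, ← disjoint_iff_inter_eq_empty]; exact h3.symm
  · have : (c ∩ b).card ≠ 0 := fun h4 => h3 (disjoint_iff_inter_eq_empty.mpr (card_eq_zero.mp h4)).symm
    omega

theorem n6 (hα : Fintype.card α = 22) (hB : IsSteinerSystem 3 6 B) {b : Finset α} (hb : b ∈ B) {p : α}
    (hp : p ∉ b) : (blks B fun d => p ∈ d ∧ Disjoint b d).card = 6 := by
  have h1 := sum_inter (blks B (p ∈ ·)) b
  rw [sum_congr rfl fun d hd => two_or hα hB hb (mem_blks.mp hd).1 (fun h => hp (h ▸ (mem_blks.mp hd).2)),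
    sum_congr (s₁ := b) rfl fun x hx => (congrArg card (blks_filter _ _)).trans
      (n5 hα hB (p := p) (q := x) fun h => hp (h ▸ hx)),
    sum_const, hB.1 b hb, sum_ite, sum_const_zero, sum_const] at h1
  have h2 := card_filter_add_card_filter_not (s := blks B (p ∈ ·)) (fun d => Disjoint b d)
  rw [n21 hα hB, blks_filter] at h2
  simp only [smul_eq_mul] at h1
  omega

theorem n2i (hα : Fintype.card α = 22) (hB : IsSteinerSystem 3 6 B) {b c : Finset α} (hb : b ∈ B) (hc : c ∈ B)
    (h : b ≠ c) : (blks B fun d => Disjoint b d ∧ Disjoint c d).card = if Disjoint b c then 0 else 4 := by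
  have h1 := sum_inter (blks B (Disjoint b ·)) c
  have h2 := card_filter_add_card_filter_not (s := blks B (Disjoint b ·)) (fun d => Disjoint c d)
  rw [n16 hα hB hb, blks_filter] at h2
  have h3 : ∑ x ∈ c, ((blks B (Disjoint b ·)).filter (x ∈ ·)).card = ∑ x ∈ c, if x ∈ b then 0 else 6 := by
    refine sum_congr rfl fun x hx => ?_
    rw [blks_filter]
    split_ifs with h4
    · rw [card_eq_zero, eq_empty_iff_forall_notMem]
      intro d hd
      exact disjoint_left.mp (mem_blks.mp hd).2.1 h4 (mem_blks.mp hd).2.2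
    · rw [← n6 hα hB hb h4]; exact congrArg card (blks_congr fun _ _ => and_comm)
  have h4 := card_filter_add_card_filter_not (s := c) (fun x => x ∈ b)
  rw [sum_ite, sum_const_zero, sum_const, smul_eq_mul] at h3
  rw [h3] at h1
  rw [filter_mem_eq_inter, two_or hα hB hb hc h.symm, hB.1 c hc] at h4
  split_ifs at h4 ⊢ with h5
  · have hm : c ∈ blks B (Disjoint b ·) := mem_blks.mpr ⟨hc, h5⟩
    have hne : ¬ Disjoint c c := by
      rw [disjoint_self, bot_eq_empty, ← card_eq_zero, hB.1 c hc]; norm_num
    have h6 : ∑ d ∈ blks B (Disjoint b ·), (d ∩ c).card =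
        ∑ d ∈ blks B (Disjoint b ·), ((if Disjoint c d then 0 else 2) + if d = c then 4 else 0) := by
      refine sum_congr rfl fun d hd => ?_
      by_cases hd' : d = c
      · rw [hd', inter_self, hB.1 c hc, if_neg hne, if_pos rfl]
      · rw [two_or hα hB hc (mem_blks.mp hd).1 hd', if_neg hd', add_zero]
    rw [h6, sum_add_distrib, sum_ite_eq', if_pos hm, sum_ite, sum_const_zero, sum_const, smul_eq_mul] at h1
    omega
  · rw [sum_congr rfl fun d hd => two_or hα hB hc (mem_blks.mp hd).1 (fun h => h5 (h ▸ (mem_blks.mp hd).2)),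
      sum_ite, sum_const_zero, sum_const, smul_eq_mul] at h1
    change _ + #({a ∈ blks B (Disjoint b) | ¬Disjoint c a}) = 16 at h2; omega

theorem ncard_sub (P : Finset α → Prop) : {c : B | P c}.ncard = (blks B P).card := by
  rw [← ncard_blks, ← Set.ncard_image_of_injective _ Subtype.val_injective]
  congr 1; ext c; simp [and_comm]

theorem not_disj_self (hB : IsSteinerSystem 3 6 B) {b : Finset α} (hb : b ∈ B) : ¬ Disjoint b b := by
  rw [disjoint_self, bot_eq_empty, ← card_eq_zero, hB.1 b hb]; norm_num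

theorem blockGraph_adj (hB : IsSteinerSystem 3 6 B) (b c : B) :
    (blockGraph B).Adj b c ↔ Disjoint (b : Finset α) c := by
  rw [blockGraph, SimpleGraph.fromRel_adj]
  refine ⟨fun h => h.2.elim id fun h => h.symm, fun h => ⟨?_, Or.inl h⟩⟩
  rintro rfl; exact not_disj_self hB b.2 h

theorem srg_of {V : Type*} [Fintype V] {G : SimpleGraph V} [DecidableRel G.Adj] {n k l m : ℕ}
    (h1 : (Set.univ : Set V).ncard = n) (h2 : ∀ v, {w | G.Adj v w}.ncard = k)
    (h3 : ∀ v w, v ≠ w → {x | G.Adj v x ∧ G.Adj w x}.ncard = if G.Adj v w then l else m) :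
    G.IsSRGWith n k l m := by
  have e : ∀ v w, Fintype.card (G.commonNeighbors v w) = {x | G.Adj v x ∧ G.Adj w x}.ncard := fun v w => by
    rw [← Nat.card_eq_fintype_card, Nat.card_coe_set_eq]; rfl
  refine ⟨by rw [← h1, Set.ncard_univ, Nat.card_eq_fintype_card], fun v => ?_, fun v w h => ?_,
    fun v w h h' => ?_⟩
  · rw [← h2 v, ← SimpleGraph.card_neighborSet_eq_degree, ← Nat.card_eq_fintype_card, Nat.card_coe_set_eq]; rfl
  · rw [e, h3 v w h.ne, if_pos h]
  · rw [e, h3 v w h, if_neg h']

theorem srg_card {V : Type*} [Fintype V] {G : SimpleGraph V} [DecidableRel G.Adj] {n k l m : ℕ}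
    (h : G.IsSRGWith n k l m) : (∀ v, (univ.filter (G.Adj v)).card = k) ∧
      ∀ v w, v ≠ w → (univ.filter fun x => G.Adj v x ∧ G.Adj w x).card = if G.Adj v w then l else m := by
  refine ⟨fun v => ?_, fun v w hvw => ?_⟩
  · rw [← h.regular v, ← SimpleGraph.card_neighborFinset_eq_degree]; congr 1; ext; simp
  · have e : Fintype.card (G.commonNeighbors v w) = (univ.filter fun x => G.Adj v x ∧ G.Adj w x).card := by
      rw [← Set.toFinset_card]; congr 1; ext; simp [SimpleGraph.mem_commonNeighbors]
    rw [← e]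
    split_ifs with h1
    exacts [h.of_adj v w h1, h.of_not_adj hvw h1]

open Classical in
theorem ncard_opt {β γ : Type*} [Finite β] [Finite γ] (S : Set (Option (β ⊕ γ))) :
    S.ncard = (if none ∈ S then 1 else 0) + ({a | some (Sum.inl a) ∈ S}.ncard + {b | some (Sum.inr b) ∈ S}.ncard) := by
  have := Fintype.ofFinite β
  have := Fintype.ofFinite γ
  have e : ∀ {δ : Type _} [Fintype δ] (T : Set δ), T.ncard = ∑ x, if x ∈ T then 1 else 0 := by
    intro δ _ T
    rw [← card_filter, Set.ncard_eq_toFinset_card']; congr 1; ext; simp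
  have e1 : ∀ (T : Set β), T.ncard = ∑ x, if x ∈ T then 1 else 0 := by
    intro T
    rw [← card_filter, Set.ncard_eq_toFinset_card']; congr 1; ext; simp
  have e2 : ∀ (T : Set γ), T.ncard = ∑ x, if x ∈ T then 1 else 0 := by
    intro T
    rw [← card_filter, Set.ncard_eq_toFinset_card']; congr 1; ext; simp
  rw [e S, e1, e2, Fintype.sum_option, Fintype.sum_sum_type]
  rfl

section
variable (hB : IsSteinerSystem 3 6 B)
include hB

omit hB in
theorem pb_nn : ¬ (pointBlockGraph B).Adj none none := SimpleGraph.irrefl _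
omit hB in
theorem pb_np (a : α) : (pointBlockGraph B).Adj none (some (.inl a)) := by
  simp [pointBlockGraph, pointBlockRel]
omit hB in
theorem pb_pn (a : α) : (pointBlockGraph B).Adj (some (.inl a)) none := (pb_np a).symm
omit hB in
theorem pb_nb (b : B) : ¬ (pointBlockGraph B).Adj none (some (.inr b)) := by
  simp [pointBlockGraph, pointBlockRel]
omit hB in
theorem pb_bn (b : B) : ¬ (pointBlockGraph B).Adj (some (.inr b)) none := fun h => pb_nb b h.symm
omit hB in
theorem pb_pp (a a' : α) : ¬ (pointBlockGraph B).Adj (some (.inl a)) (some (.inl a')) := by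
  simp [pointBlockGraph, pointBlockRel]
omit hB in
theorem pb_pb (a : α) (b : B) : (pointBlockGraph B).Adj (some (.inl a)) (some (.inr b)) ↔ a ∈ b.1 := by
  simp [pointBlockGraph, pointBlockRel]
omit hB in
theorem pb_bp (a : α) (b : B) : (pointBlockGraph B).Adj (some (.inr b)) (some (.inl a)) ↔ a ∈ b.1 := by
  simp [pointBlockGraph, pointBlockRel]
theorem pb_bb (b c : B) : (pointBlockGraph B).Adj (some (.inr b)) (some (.inr c)) ↔ Disjoint b.1 c.1 := by
  rw [← blockGraph_adj hB]
  simp [pointBlockGraph, pointBlockRel, blockGraph]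

end

end Cfsg.Agent.Steiner
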