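import Cfsg.Agent.Lib.Steiner.HS

/-! Uniqueness of the strongly regular graph with parameters `(100, 22, 0, 6)`. -/

set_option autoImplicit false
set_option linter.unusedSectionVars false
set_option linter.unusedVariables false

namespace Cfsg.Agent.Steiner

open Finset

theorem sum_inter' {ι α : Type*} [DecidableEq α] (Q : Finset ι) (f : ι → Finset α) (S : Finset α) :
    ∑ z ∈ Q, (S ∩ f z).card = ∑ p ∈ S, (Q.filter (p ∈ f ·)).card := by
  simp only [card_filter]
  rw [sum_comm]
  refine sum_congr rfl fun d _ => ?_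
  rw [← card_filter, filter_mem_eq_inter]

theorem sum_inter_sq {ι α : Type*} [DecidableEq α] (Q : Finset ι) (f : ι → Finset α) (S : Finset α) :
    ∑ z ∈ Q, (S ∩ f z).card ^ 2 = ∑ p ∈ S, ∑ q ∈ S, (Q.filter fun z => p ∈ f z ∧ q ∈ f z).card := by
  simp only [card_filter]
  rw [sum_congr rfl fun p _ => sum_comm, sum_comm]
  refine sum_congr rfl fun z _ => ?_
  rw [← filter_mem_eq_inter, card_filter, sq, sum_mul_sum]
  refine sum_congr rfl fun p _ => sum_congr rfl fun q _ => ?_
  by_cases h1 : p ∈ f z <;> by_cases h2 : q ∈ f z <;> simp [h1, h2]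

theorem var_zero {ι : Type*} (T : Finset ι) (t : ι → ℕ) (c : ℕ) (h1 : ∑ z ∈ T, t z = c * T.card)
    (h2 : ∑ z ∈ T, t z ^ 2 = c ^ 2 * T.card) : ∀ z ∈ T, t z = c := by
  have h : ∑ z ∈ T, ((t z : ℤ) - c) ^ 2 = 0 := by
    have e : ∀ z, ((t z : ℤ) - c) ^ 2 = (t z ^ 2 : ℕ) - 2 * c * (t z : ℤ) + c ^ 2 := fun z => by push_cast; ring
    simp only [e, sum_add_distrib, sum_sub_distrib, ← mul_sum, ← Nat.cast_sum, h1, h2, sum_const, nsmul_eq_mul]
    push_cast; ring
  intro z hz
  have := (sum_eq_zero_iff_of_nonneg fun z _ => sq_nonneg _).mp h z hz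
  exact_mod_cast sub_eq_zero.mp (pow_eq_zero_iff two_ne_zero |>.mp this)

theorem st_of_count {α : Type*} [Fintype α] [DecidableEq α] {t k : ℕ} (T : Finset (Finset α))
    (h1 : ∀ b ∈ T, b.card = k) (h2 : ∀ b ∈ T, ∀ c ∈ T, b ≠ c → (b ∩ c).card < t)
    (h3 : T.card * k.choose t = (Fintype.card α).choose t) : IsSteinerSystem t k (T : Set (Finset α)) := by
  refine ⟨h1, fun s hs => ?_⟩
  have h4 : T.biUnion (powersetCard t) = powersetCard t univ := by
    refine eq_of_subset_of_card_le (biUnion_subset.mpr fun b _ => powersetCard_mono (subset_univ _)) ?_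
    rw [card_biUnion, sum_congr rfl fun b hb => (card_powersetCard t b).trans (by rw [h1 b hb]), sum_const,
      card_powersetCard, card_univ, ← h3, smul_eq_mul]
    intro b hb c hc hbc
    refine disjoint_left.mpr fun u hu hu' => ?_
    rw [mem_powersetCard] at hu hu'
    have := h2 b hb c hc hbc
    have := card_le_card (subset_inter hu.1 hu'.1)
    omega
  have h5 : s ∈ T.biUnion (powersetCard t) := h4 ▸ mem_powersetCard.mpr ⟨subset_univ _, hs⟩
  obtain ⟨b, hb, h6⟩ := mem_biUnion.mp h5
  refine ⟨b, ⟨hb, (mem_powersetCard.mp h6).1⟩, fun c hc => by_contra fun hbc => ?_⟩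
  have := h2 c hc.1 b hb hbc
  have := card_le_card (subset_inter hc.2 (mem_powersetCard.mp h6).1)
  omega

theorem pb_iso {α β : Type*} [Fintype α] [DecidableEq α] [Fintype β] [DecidableEq β] {B : Set (Finset α)}
    {B' : Set (Finset β)} (hB : IsSteinerSystem 3 6 B) (hB' : IsSteinerSystem 3 6 B') (h : SetSystemIso B B') :
    Nonempty (pointBlockGraph B ≃g pointBlockGraph B') := by
  obtain ⟨e, he⟩ := h
  have h1 : ∀ b, b ∈ B ↔ e.finsetCongr b ∈ B' := fun b => by
    rw [← he, Equiv.finsetCongr_apply, map_eq_image]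
    exact ((image_injective e.injective).mem_set_image).symm
  let eB : B ≃ B' := e.finsetCongr.subtypeEquiv h1
  have h2 : ∀ b : B, (eB b).1 = b.1.map e.toEmbedding := fun _ => rfl
  refine ⟨⟨(e.sumCongr eB).optionCongr, ?_⟩⟩
  rintro (_ | a | b) (_ | a' | b') <;>
    simp [pb_nn, pb_np, pb_pn, pb_nb, pb_bn, pb_pp, pb_pb, pb_bp, pb_bb hB, pb_bb hB', h2, disjoint_map]

theorem srg100 {V : Type*} [Fintype V] {G : SimpleGraph V} [DecidableRel G.Adj] (hG : G.IsSRGWith 100 22 0 6)
    (x : V) : ∃ B : Set (Finset {v // G.Adj x v}), Fintype.card {v // G.Adj x v} = 22 ∧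
      IsSteinerSystem 3 6 B ∧ Nonempty (pointBlockGraph B ≃g G) := by
  classical
  obtain ⟨hk, hc⟩ := srg_card hG
  have tri : ∀ u v w, G.Adj u v → G.Adj u w → G.Adj v w → False := fun u v w h1 h2 h3 => by
    have := hc u v h1.ne
    rw [if_pos h1, card_eq_zero, eq_empty_iff_forall_notMem] at this
    exact this w (by simp [h2, h3])
  have h22 : Fintype.card {v // G.Adj x v} = 22 := by rw [Fintype.card_subtype, hk]
  let Q : Finset V := univ.filter fun y => y ≠ x ∧ ¬ G.Adj x y
  have mQ : ∀ y, y ∈ Q ↔ y ≠ x ∧ ¬ G.Adj x y := fun y => by simp [Q]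
  let blk : V → Finset {v // G.Adj x v} := fun y => univ.filter fun p => G.Adj y p
  have mb : ∀ y p, p ∈ blk y ↔ G.Adj y p := fun y p => by simp [blk]
  have split : ∀ (P : V → Prop) [DecidablePred P], (univ.filter P).card = (if P x then 1 else 0) +
      ((univ.filter fun p : {v // G.Adj x v} => P p).card + (Q.filter P).card) := by
    intro P _
    have e1 : (univ.filter fun p : {v // G.Adj x v} => P p).card = (univ.filter fun v => G.Adj x v ∧ P v).card := by
      rw [← card_map (Function.Embedding.subtype _)]; congr 1; ext v; simp; tauto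
    have e2 : (if P x then 1 else 0) = (({x} : Finset V).filter P).card := by
      rw [filter_singleton]; split_ifs <;> rfl
    rw [e1, e2, ← card_union_of_disjoint, ← card_union_of_disjoint]
    · congr 1; ext v
      simp only [mem_filter, mem_univ, true_and, mem_union, mem_singleton, mQ]; tauto
    · rw [disjoint_left]; intro v h1 h2
      simp only [mem_filter, mem_univ, true_and, mem_union, mem_singleton, mQ] at h1 h2
      obtain ⟨rfl, -⟩ := h1
      rcases h2 with h2 | h2
      exacts [h2.1.ne rfl, h2.1.1 rfl]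
    · rw [disjoint_left]; intro v h1 h2
      simp only [mem_filter, mem_univ, true_and, mQ] at h1 h2
      exact h2.1.2 h1.1
  have hQ : Q.card = 77 := by
    have := split (fun _ => True)
    simp only [filter_true, card_univ, hG.card, h22, if_true] at this; omega
  have h6 : ∀ y ∈ Q, (blk y).card = 6 := fun y hy => by
    rw [mQ] at hy
    have := hc x y hy.1.symm
    rw [if_neg hy.2] at this
    rw [← this, ← card_map (Function.Embedding.subtype _)]; congr 1; ext v; simp [mb]; tauto
  have h16 : ∀ y ∈ Q, (Q.filter (G.Adj y)).card = 16 := fun y hy => by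
    have := split (G.Adj y)
    rw [hk, if_neg fun h => ((mQ y).mp hy).2 h.symm] at this
    have := h6 y hy
    simp only [blk] at this; omega
  have h21 : ∀ p : {v // G.Adj x v}, (Q.filter (p ∈ blk ·)).card = 21 := fun p => by
    have := split (G.Adj p)
    rw [hk, if_pos p.2.symm, filter_eq_empty_iff.mpr fun q _ h => tri _ _ _ p.2 q.2 h] at this
    simp only [mb, G.adj_comm _ p.1]
    simp only [card_empty] at this
    change (Q.filter (G.Adj p)).card = 21
    omega
  have h5 : ∀ p q : {v // G.Adj x v}, p ≠ q → (Q.filter fun z => p ∈ blk z ∧ q ∈ blk z).card = 5 := fun p q h => by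
    have := split (fun z => G.Adj p z ∧ G.Adj q z)
    rw [hc _ _ fun h' => h (Subtype.ext h'), if_neg fun h => tri _ _ _ p.2 q.2 h, if_pos ⟨p.2.symm, q.2.symm⟩,
      filter_eq_empty_iff.mpr fun r _ h => tri _ _ _ p.2 r.2 h.1] at this
    simp only [mb, G.adj_comm _ p.1, G.adj_comm _ q.1]
    simp only [card_empty] at this; omega
  have h0 : ∀ y z, G.Adj y z → blk y ∩ blk z = ∅ := fun y z h =>
    eq_empty_of_forall_notMem fun p hp => tri _ _ _ h ((mb _ _).mp (mem_inter.mp hp).1) ((mb _ _).mp (mem_inter.mp hp).2)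
  have h2 : ∀ y ∈ Q, ∀ z ∈ Q, z ≠ y → ¬ G.Adj y z → (blk y ∩ blk z).card = 2 := by
    intro y hy
    have s1 := sum_inter' Q blk (blk y)
    have s2 := sum_inter_sq Q blk (blk y)
    rw [sum_congr rfl fun p _ => h21 p, sum_const, h6 y hy] at s1
    have e : ∀ p ∈ blk y, ∑ q ∈ blk y, (Q.filter fun z => p ∈ blk z ∧ q ∈ blk z).card = 46 := fun p hp => by
      rw [← add_sum_erase _ _ hp, sum_congr rfl fun q hq => h5 p q (ne_of_mem_erase hq).symm, sum_const,
        card_erase_of_mem hp, h6 y hy]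
      simp only [and_self, h21]; rfl
    rw [sum_congr rfl e, sum_const, h6 y hy] at s2
    have hy' : y ∈ Q.filter (¬ G.Adj y ·) := mem_filter.mpr ⟨hy, G.irrefl⟩
    have c1 := card_filter_add_card_filter_not (s := Q) (G.Adj y)
    have c2 := card_erase_of_mem hy'
    rw [h16 y hy, hQ] at c1
    rw [← sum_filter_add_sum_filter_not Q (G.Adj y), ← add_sum_erase _ _ hy', inter_self, h6 y hy,
      sum_eq_zero fun z hz => by rw [h0 y z (mem_filter.mp hz).2]; rfl] at s1 s2
    have := var_zero ((Q.filter (¬ G.Adj y ·)).erase y) (fun z => (blk y ∩ blk z).card) 2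
      (by simp only [smul_eq_mul] at s1; omega) (by simp only [smul_eq_mul] at s2; omega)
    exact fun z hz h3 h4 => this z (mem_erase.mpr ⟨h3, mem_filter.mpr ⟨hz, h4⟩⟩)
  have h3 : ∀ y ∈ Q, ∀ z ∈ Q, z ≠ y → (blk y ∩ blk z).card < 3 := fun y hy z hz h => by
    by_cases h' : G.Adj y z
    · rw [h0 y z h']; simp
    · rw [h2 y hy z hz h h']; norm_num
  have hinj : Set.InjOn blk Q := fun y hy z hz h => by_contra fun h' => by
    have := h3 y hy z hz (Ne.symm h')
    rw [← h, inter_self, h6 y hy] at this; omega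
  have hB : IsSteinerSystem 3 6 (Q.image blk : Set (Finset {v // G.Adj x v})) := by
    refine st_of_count _ ?_ ?_ (by rw [card_image_of_injOn hinj, hQ, h22]; decide)
    · intro b hb; obtain ⟨y, hy, rfl⟩ := mem_image.mp hb; exact h6 y hy
    · intro b hb c hc' h
      obtain ⟨y, hy, rfl⟩ := mem_image.mp hb
      obtain ⟨z, hz, rfl⟩ := mem_image.mp hc'
      exact h3 y hy z hz fun h' => h (by rw [h'])
  refine ⟨_, h22, hB, ?_⟩
  have hv : ∀ b : (Q.image blk : Set (Finset {v // G.Adj x v})), ∃ y ∈ Q, blk y = b := fun b => mem_image.mp b.2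
  choose vt hv1 hv2 using hv
  let f : Option ({v // G.Adj x v} ⊕ (Q.image blk : Set (Finset {v // G.Adj x v}))) → V :=
    fun u => u.elim x (Sum.elim Subtype.val vt)
  have hsurj : Function.Surjective f := fun y => by
    by_cases h4 : y = x
    · exact ⟨none, h4.symm⟩
    by_cases h5 : G.Adj x y
    · exact ⟨some (.inl ⟨y, h5⟩), rfl⟩
    · have hy := (mQ y).mpr ⟨h4, h5⟩
      exact ⟨some (.inr ⟨blk y, mem_image_of_mem _ hy⟩), hinj (hv1 _) hy (hv2 _)⟩
  have hbij : Function.Bijective f := by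
    refine (Fintype.bijective_iff_surjective_and_card f).mpr ⟨hsurj, ?_⟩
    rw [Fintype.card_option, Fintype.card_sum, h22, hG.card]
    simp only [coe_sort_coe, Fintype.card_coe, card_image_of_injOn hinj, hQ]
  have hbb : ∀ b c, G.Adj (vt b) (vt c) ↔ Disjoint b.1 c.1 := fun b c => by
    rw [← hv2, ← hv2, disjoint_iff_inter_eq_empty]
    refine ⟨h0 _ _, fun h => by_contra fun h' => ?_⟩
    by_cases h4 : vt c = vt b
    · have := h6 _ (hv1 b)
      rw [h4, inter_self] at h; rw [h] at this; simp at this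
    · have := h2 _ (hv1 b) _ (hv1 c) h4 h'
      rw [h] at this; simp at this
  have hpb : ∀ b (p : {v // G.Adj x v}), G.Adj (vt b) p ↔ p ∈ b.1 := fun b p => by rw [← hv2, mb]
  refine ⟨⟨Equiv.ofBijective f hbij, ?_⟩⟩
  rintro (_ | a | b) (_ | a' | b')
  · simp
  · exact iff_of_true a'.2 (pb_np _)
  · exact iff_of_false ((mQ _).mp (hv1 b')).2 (pb_nb _)
  · exact iff_of_true a.2.symm (pb_pn _)
  · exact iff_of_false (tri _ _ _ a.2 a'.2) (pb_pp _ _)
  · rw [pb_pb, ← hpb, G.adj_comm]; rfl
  · exact iff_of_false (fun h => ((mQ _).mp (hv1 b)).2 h.symm) (pb_bn _)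
  · rw [pb_bp, ← hpb]; rfl
  · rw [pb_bb hB, ← hbb]; rfl

end Cfsg.Agent.Steiner
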