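import Cfsg.Prelude.Def_Sporadic_a

/-! Counting blocks of Steiner systems: the numbers `λ_i` and the intersection triangle. -/

set_option autoImplicit false
set_option linter.unusedSectionVars false
set_option linter.unusedVariables false

namespace Cfsg.Agent.Steiner

open Finset

variable {α : Type*} [Fintype α] [DecidableEq α]

open Classical in
/-- the blocks with property `P` -/
noncomputable def blks (B : Set (Finset α)) (P : Finset α → Prop) : Finset (Finset α) :=
  univ.filter fun c => c ∈ B ∧ P c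

theorem mem_blks {B : Set (Finset α)} {P : Finset α → Prop} {c : Finset α} :
    c ∈ blks B P ↔ c ∈ B ∧ P c := by simp [blks]

theorem ncard_blks (B : Set (Finset α)) (P : Finset α → Prop) :
    {c | c ∈ B ∧ P c}.ncard = (blks B P).card := by
  rw [← Set.ncard_coe_finset]; congr 1; ext c; simp [mem_blks]

theorem blks_congr {B : Set (Finset α)} {P Q : Finset α → Prop} (h : ∀ c ∈ B, P c ↔ Q c) :
    blks B P = blks B Q := by
  ext c; simp only [mem_blks]; exact and_congr_right (h c)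

theorem st_eq {t k : ℕ} {B : Set (Finset α)} (hB : IsSteinerSystem t k B) {b c : Finset α} (hb : b ∈ B)
    (hc : c ∈ B) (h : t ≤ (b ∩ c).card) : b = c := by
  obtain ⟨s, hs, hst⟩ := Finset.exists_subset_card_eq h
  obtain ⟨d, -, hd⟩ := hB.2 s hst
  rw [hd b ⟨hb, hs.trans inter_subset_left⟩, hd c ⟨hc, hs.trans inter_subset_right⟩]

theorem st_lt {t k : ℕ} {B : Set (Finset α)} (hB : IsSteinerSystem t k B) {b c : Finset α} (hb : b ∈ B)
    (hc : c ∈ B) (h : b ≠ c) : (b ∩ c).card < t := by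
  by_contra h'; exact h (st_eq hB hb hc (by omega))

theorem st_count {t k : ℕ} {B : Set (Finset α)} (hB : IsSteinerSystem t k B) (s : Finset α)
    (hs : s.card ≤ t) : (blks B (s ⊆ ·)).card * Nat.choose (k - s.card) (t - s.card) =
      Nat.choose (Fintype.card α - s.card) (t - s.card) := by
  classical
  have h := Finset.card_mul_eq_card_mul (fun (b u : Finset α) => u ⊆ b) (s := blks B (s ⊆ ·))
    (t := powersetCard (t - s.card) sᶜ) (m := Nat.choose (k - s.card) (t - s.card)) (n := 1) ?_ ?_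
  · rw [h, mul_one, card_powersetCard, card_compl]
  · intro b hb
    rw [mem_blks] at hb
    have : (powersetCard (t - s.card) sᶜ).bipartiteAbove (fun (b u : Finset α) => u ⊆ b) b =
        powersetCard (t - s.card) (b \ s) := by
      ext u
      simp only [mem_bipartiteAbove, mem_powersetCard, subset_sdiff, subset_compl_iff_disjoint_right]
      tauto
    rw [this, card_powersetCard, card_sdiff_of_subset hb.2, hB.1 b hb.1]
  · intro u hu
    rw [mem_powersetCard, subset_compl_iff_disjoint_right] at hu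
    obtain ⟨b, hb, hb'⟩ := hB.2 (u ∪ s) (by rw [card_union_of_disjoint hu.1]; omega)
    rw [card_eq_one]
    refine ⟨b, ?_⟩
    ext c
    simp only [mem_bipartiteBelow, mem_blks, mem_singleton]
    constructor
    · rintro ⟨⟨h1, h2⟩, h3⟩; exact hb' c ⟨h1, union_subset h3 h2⟩
    · rintro rfl; exact ⟨⟨hb.1, subset_union_right.trans hb.2⟩, subset_union_left.trans hb.2⟩

theorem st_one {t k : ℕ} {B : Set (Finset α)} (hB : IsSteinerSystem t k B) {b s : Finset α} (hb : b ∈ B)
    (hs : s ⊆ b) (h : t ≤ s.card) : (blks B (s ⊆ ·)).card = 1 := by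
  rw [card_eq_one]
  refine ⟨b, ?_⟩
  ext c
  simp only [mem_blks, mem_singleton]
  constructor
  · rintro ⟨h1, h2⟩
    exact st_eq hB h1 hb (h.trans (card_le_card (subset_inter h2 hs)))
  · rintro rfl; exact ⟨hb, hs⟩

theorem sum_sup (b s : Finset α) (hs : s ⊆ b) (g : ℕ → ℕ) :
    ∑ u ∈ b.powerset.filter (s ⊆ ·), g u.card =
      ∑ j ∈ range (b.card - s.card + 1), (b.card - s.card).choose j * g (s.card + j) := by
  have h := Finset.sum_powerset_apply_card (fun j => g (s.card + j)) (x := b \ s)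
  rw [card_sdiff_of_subset hs] at h
  simp only [smul_eq_mul] at h
  rw [← h]
  refine Finset.sum_bij' (fun u _ => u \ s) (fun u _ => u ∪ s) ?_ ?_ ?_ ?_ ?_
  · intro u hu
    simp only [mem_filter, mem_powerset] at hu ⊢
    exact sdiff_subset_sdiff hu.1 subset_rfl
  · intro u hu
    simp only [mem_filter, mem_powerset, subset_sdiff] at hu ⊢
    exact ⟨union_subset hu.1 hs, subset_union_right⟩
  · intro u hu
    simp only [mem_filter, mem_powerset] at hu
    exact sdiff_union_of_subset hu.2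
  · intro u hu
    simp only [mem_powerset, subset_sdiff] at hu
    exact union_sdiff_cancel_right hu.2
  · intro u hu
    simp only [mem_filter, mem_powerset] at hu
    have := card_le_card hu.2
    rw [card_sdiff_of_subset hu.2]; congr 1; omega

theorem lam_eq_sum (B : Set (Finset α)) (b s : Finset α) (hs : s ⊆ b) :
    (blks B (s ⊆ ·)).card = ∑ u ∈ b.powerset.filter (s ⊆ ·), (blks B (b ∩ · = u)).card := by
  classical
  rw [Finset.card_eq_sum_card_fiberwise (f := fun c => b ∩ c) (t := b.powerset.filter (s ⊆ ·))]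
  · refine Finset.sum_congr rfl fun u hu => ?_
    congr 1; ext c
    simp only [mem_filter, mem_blks, mem_powerset] at hu ⊢
    constructor
    · rintro ⟨⟨h1, -⟩, h2⟩; exact ⟨h1, h2⟩
    · rintro ⟨h1, h2⟩; exact ⟨⟨h1, hu.2.trans (h2 ▸ inter_subset_right)⟩, h2⟩
  · intro c hc
    simp only [coe_filter, mem_coe, mem_blks, mem_powerset, Set.mem_setOf_eq] at hc ⊢
    exact ⟨inter_subset_left, subset_inter hs hc.2⟩

/-- the intersection triangle -/
theorem tri (B : Set (Finset α)) (b : Finset α) (lam g : ℕ → ℕ)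
    (h1 : ∀ u ⊆ b, (blks B (u ⊆ ·)).card = lam u.card)
    (h2 : ∀ i ≤ b.card, lam i = ∑ j ∈ range (b.card - i + 1), (b.card - i).choose j * g (i + j)) :
    ∀ s ⊆ b, (blks B (b ∩ · = s)).card = g s.card := by
  have : ∀ n, ∀ s ⊆ b, b.card - s.card = n → (blks B (b ∩ · = s)).card = g s.card := by
    intro n
    induction n using Nat.strong_induction_on with
    | _ n ih =>
      intro s hs hn
      have e1 := lam_eq_sum B b s hs
      rw [h1 s hs, h2 _ (card_le_card hs), ← sum_sup b s hs g] at e1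
      have hm : s ∈ b.powerset.filter (s ⊆ ·) := by simp [hs]
      rw [← Finset.add_sum_erase _ _ hm, ← Finset.add_sum_erase _ _ hm] at e1
      have e2 : ∑ u ∈ (b.powerset.filter (s ⊆ ·)).erase s, g u.card =
          ∑ u ∈ (b.powerset.filter (s ⊆ ·)).erase s, (blks B (b ∩ · = u)).card := by
        refine Finset.sum_congr rfl fun u hu => ?_
        simp only [mem_erase, mem_filter, mem_powerset] at hu
        have h3 := card_lt_card (lt_of_le_of_ne hu.2.2 hu.1.symm)
        have h4 := card_le_card hu.2.1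
        exact (ih (b.card - u.card) (by omega) u hu.2.1 rfl).symm
      omega
  exact fun s hs => this _ s hs rfl

/-- number of blocks meeting `b` in `i` points -/
theorem tri_card (B : Set (Finset α)) (b : Finset α) (g : ℕ → ℕ)
    (h : ∀ s ⊆ b, (blks B (b ∩ · = s)).card = g s.card) (i : ℕ) :
    (blks B (fun c => (b ∩ c).card = i)).card = b.card.choose i * g i := by
  classical
  rw [Finset.card_eq_sum_card_fiberwise (f := fun c => b ∩ c) (t := powersetCard i b)]
  · rw [← card_powersetCard, ← smul_eq_mul, ← Finset.sum_const]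
    refine Finset.sum_congr rfl fun u hu => ?_
    rw [mem_powersetCard] at hu
    rw [← hu.2, ← h u hu.1]
    congr 1; ext c
    simp only [mem_filter, mem_blks]
    constructor
    · rintro ⟨⟨h1, -⟩, h2⟩; exact ⟨h1, h2⟩
    · rintro ⟨h1, h2⟩; exact ⟨⟨h1, by rw [h2]⟩, h2⟩
  · intro c hc
    simp only [mem_coe, mem_blks, mem_powersetCard] at hc ⊢
    exact ⟨inter_subset_left, hc.2⟩

theorem tri_ne (B : Set (Finset α)) (b : Finset α) (g : ℕ → ℕ)
    (h : ∀ s ⊆ b, (blks B (b ∩ · = s)).card = g s.card) {c : Finset α} (hc : c ∈ B) :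
    g (b ∩ c).card ≠ 0 := by
  rw [← h _ inter_subset_left]
  exact card_ne_zero_of_mem (mem_blks.mpr ⟨hc, rfl⟩)

theorem tri_ex (B : Set (Finset α)) (b : Finset α) (g : ℕ → ℕ)
    (h : ∀ s ⊆ b, (blks B (b ∩ · = s)).card = g s.card) {s : Finset α} (hs : s ⊆ b) (hg : g s.card ≠ 0) :
    ∃ c ∈ B, b ∩ c = s := by
  rw [← h s hs] at hg
  obtain ⟨c, hc⟩ := card_ne_zero.mp hg
  exact ⟨c, mem_blks.mp hc⟩

/-- `λ_i` given as a list-like function -/
theorem st_lam {t k v : ℕ} {B : Set (Finset α)} (hB : IsSteinerSystem t k B) (hv : Fintype.card α = v)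
    (lam : ℕ → ℕ) (hl : ∀ i ≤ t, 0 < Nat.choose (k - i) (t - i) ∧
      lam i * Nat.choose (k - i) (t - i) = Nat.choose (v - i) (t - i)) (s : Finset α) (hs : s.card ≤ t) :
    (blks B (s ⊆ ·)).card = lam s.card := by
  have h := st_count hB s hs
  rw [hv, ← (hl _ hs).2] at h
  exact Nat.eq_of_mul_eq_mul_right (hl _ hs).1 h

/-- the triangle with respect to a block -/
theorem st_tri {t k v : ℕ} {B : Set (Finset α)} (hB : IsSteinerSystem t k B) (hv : Fintype.card α = v)
    (lam g : ℕ → ℕ) (hl : ∀ i ≤ t, 0 < Nat.choose (k - i) (t - i) ∧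
      lam i * Nat.choose (k - i) (t - i) = Nat.choose (v - i) (t - i))
    (hl1 : ∀ i ≤ k, t < i → lam i = 1)
    (hg : ∀ i ≤ k, lam i = ∑ j ∈ range (k - i + 1), (k - i).choose j * g (i + j))
    {b : Finset α} (hb : b ∈ B) : ∀ s ⊆ b, (blks B (b ∩ · = s)).card = g s.card := by
  have hk := hB.1 b hb
  refine tri B b lam g (fun u hu => ?_) (by rw [hk]; exact hg)
  by_cases h : u.card ≤ t
  · exact st_lam hB hv lam hl u h
  · rw [st_one hB hb hu (by omega), hl1 _ (hk ▸ card_le_card hu) (by omega)]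

/-- the triangle with respect to a small set -/
theorem st_tri' {t k v : ℕ} {B : Set (Finset α)} (hB : IsSteinerSystem t k B) (hv : Fintype.card α = v)
    (lam g : ℕ → ℕ) (hl : ∀ i ≤ t, 0 < Nat.choose (k - i) (t - i) ∧
      lam i * Nat.choose (k - i) (t - i) = Nat.choose (v - i) (t - i))
    {m : ℕ} (hm : m ≤ t)
    (hg : ∀ i ≤ m, lam i = ∑ j ∈ range (m - i + 1), (m - i).choose j * g (i + j))
    {b : Finset α} (hb : b.card = m) : ∀ s ⊆ b, (blks B (b ∩ · = s)).card = g s.card :=
  tri B b lam g (fun u hu => st_lam hB hv lam hl u ((card_le_card hu).trans (by omega))) (by rw [hb]; exact hg)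

def nth (l : List ℕ) (i : ℕ) : ℕ := l.getD i 0

section
variable {B : Set (Finset α)}

def lam24 : ℕ → ℕ := nth [759, 253, 77, 21, 5, 1, 1, 1, 1]
def lam23 : ℕ → ℕ := nth [253, 77, 21, 5, 1, 1, 1, 1]
def lam22 : ℕ → ℕ := nth [77, 21, 5, 1, 1, 1, 1]
def lam21 : ℕ → ℕ := nth [21, 5, 1, 1, 1, 1]
def lam12 : ℕ → ℕ := nth [132, 66, 30, 12, 4, 1, 1]
def lam11 : ℕ → ℕ := nth [66, 30, 12, 4, 1, 1]

theorem tri24 (hα : Fintype.card α = 24) (hB : IsSteinerSystem 5 8 B) {b : Finset α} (hb : b ∈ B) :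
    ∀ s ⊆ b, (blks B (b ∩ · = s)).card = nth [30, 0, 16, 0, 4, 0, 0, 0, 1] s.card :=
  st_tri hB hα lam24 _ (by decide) (by decide) (by decide) hb

theorem tri23 (hα : Fintype.card α = 23) (hB : IsSteinerSystem 4 7 B) {b : Finset α} (hb : b ∈ B) :
    ∀ s ⊆ b, (blks B (b ∩ · = s)).card = nth [0, 16, 0, 4, 0, 0, 0, 1] s.card :=
  st_tri hB hα lam23 _ (by decide) (by decide) (by decide) hb

theorem tri22 (hα : Fintype.card α = 22) (hB : IsSteinerSystem 3 6 B) {b : Finset α} (hb : b ∈ B) :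
    ∀ s ⊆ b, (blks B (b ∩ · = s)).card = nth [16, 0, 4, 0, 0, 0, 1] s.card :=
  st_tri hB hα lam22 _ (by decide) (by decide) (by decide) hb

theorem tri21 (hα : Fintype.card α = 21) (hB : IsSteinerSystem 2 5 B) {b : Finset α} (hb : b ∈ B) :
    ∀ s ⊆ b, (blks B (b ∩ · = s)).card = nth [0, 4, 0, 0, 0, 1] s.card :=
  st_tri hB hα lam21 _ (by decide) (by decide) (by decide) hb

theorem tri12 (hα : Fintype.card α = 12) (hB : IsSteinerSystem 5 6 B) {b : Finset α} (hb : b ∈ B) :
    ∀ s ⊆ b, (blks B (b ∩ · = s)).card = nth [1, 0, 3, 2, 3, 0, 1] s.card :=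
  st_tri hB hα lam12 _ (by decide) (by decide) (by decide) hb

theorem tri11 (hα : Fintype.card α = 11) (hB : IsSteinerSystem 4 5 B) {b : Finset α} (hb : b ∈ B) :
    ∀ s ⊆ b, (blks B (b ∩ · = s)).card = nth [0, 3, 2, 3, 0, 1] s.card :=
  st_tri hB hα lam11 _ (by decide) (by decide) (by decide) hb

theorem inter24 (hα : Fintype.card α = 24) (hB : IsSteinerSystem 5 8 B) {b c : Finset α} (hb : b ∈ B)
    (hc : c ∈ B) : (b ∩ c).card = 0 ∨ (b ∩ c).card = 2 ∨ (b ∩ c).card = 4 ∨ (b ∩ c).card = 8 := by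
  have h := tri_ne B b _ (tri24 hα hB hb) hc
  have h2 : (b ∩ c).card ≤ 8 := hB.1 b hb ▸ card_le_card inter_subset_left
  revert h h2; generalize (b ∩ c).card = n; intro h h2; interval_cases n <;> simp_all [nth]

theorem inter23 (hα : Fintype.card α = 23) (hB : IsSteinerSystem 4 7 B) {b c : Finset α} (hb : b ∈ B)
    (hc : c ∈ B) : (b ∩ c).card = 1 ∨ (b ∩ c).card = 3 ∨ (b ∩ c).card = 7 := by
  have h := tri_ne B b _ (tri23 hα hB hb) hc
  have h2 : (b ∩ c).card ≤ 7 := hB.1 b hb ▸ card_le_card inter_subset_left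
  revert h h2; generalize (b ∩ c).card = n; intro h h2; interval_cases n <;> simp_all [nth]

theorem inter22 (hα : Fintype.card α = 22) (hB : IsSteinerSystem 3 6 B) {b c : Finset α} (hb : b ∈ B)
    (hc : c ∈ B) : (b ∩ c).card = 0 ∨ (b ∩ c).card = 2 ∨ (b ∩ c).card = 6 := by
  have h := tri_ne B b _ (tri22 hα hB hb) hc
  have h2 : (b ∩ c).card ≤ 6 := hB.1 b hb ▸ card_le_card inter_subset_left
  revert h h2; generalize (b ∩ c).card = n; intro h h2; interval_cases n <;> simp_all [nth]

theorem inter21 (hα : Fintype.card α = 21) (hB : IsSteinerSystem 2 5 B) {b c : Finset α} (hb : b ∈ B)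
    (hc : c ∈ B) : (b ∩ c).card = 1 ∨ (b ∩ c).card = 5 := by
  have h := tri_ne B b _ (tri21 hα hB hb) hc
  have h2 : (b ∩ c).card ≤ 5 := hB.1 b hb ▸ card_le_card inter_subset_left
  revert h h2; generalize (b ∩ c).card = n; intro h h2; interval_cases n <;> simp_all [nth]

theorem inter12 (hα : Fintype.card α = 12) (hB : IsSteinerSystem 5 6 B) {b c : Finset α} (hb : b ∈ B)
    (hc : c ∈ B) : (b ∩ c).card = 0 ∨ (b ∩ c).card = 2 ∨ (b ∩ c).card = 3 ∨ (b ∩ c).card = 4 ∨
      (b ∩ c).card = 6 := by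
  have h := tri_ne B b _ (tri12 hα hB hb) hc
  have h2 : (b ∩ c).card ≤ 6 := hB.1 b hb ▸ card_le_card inter_subset_left
  revert h h2; generalize (b ∩ c).card = n; intro h h2; interval_cases n <;> simp_all [nth]

theorem inter11 (hα : Fintype.card α = 11) (hB : IsSteinerSystem 4 5 B) {b c : Finset α} (hb : b ∈ B)
    (hc : c ∈ B) : (b ∩ c).card ≠ 0 := by
  have h := tri_ne B b _ (tri11 hα hB hb) hc
  intro h2; rw [h2] at h; exact h rfl

theorem compl12 (hα : Fintype.card α = 12) (hB : IsSteinerSystem 5 6 B) {b : Finset α} (hb : b ∈ B) :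
    bᶜ ∈ B := by
  obtain ⟨c, hc, h⟩ := tri_ex B b _ (tri12 hα hB hb) (empty_subset b) (by rw [card_empty]; decide)
  have : c = bᶜ := by
    refine eq_of_subset_of_card_le ?_ (by rw [card_compl, hα, hB.1 b hb, hB.1 c hc])
    rw [subset_compl_iff_disjoint_left, disjoint_iff_inter_eq_empty, h]
  exact this ▸ hc

theorem inter_eq_of_card {k t : ℕ} (hB : IsSteinerSystem t k B) {b c : Finset α} (hb : b ∈ B) (hc : c ∈ B)
    (h : (b ∩ c).card = k) : b = c := by
  have h1 : b ∩ c = b := eq_of_subset_of_card_le inter_subset_left (by rw [h, hB.1 b hb])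
  have h2 : b ∩ c = c := eq_of_subset_of_card_le inter_subset_right (by rw [h, hB.1 c hc])
  exact h1.symm.trans h2

end

/-- derived system -/
theorem derived {t k : ℕ} {B : Set (Finset α)} (hB : IsSteinerSystem (t + 1) (k + 1) B) (p : α) :
    IsSteinerSystem t k {b' : Finset {a : α // a ≠ p} |
      ∃ b ∈ B, p ∈ b ∧ b' = Finset.subtype (fun a => a ≠ p) b} := by
  refine ⟨?_, fun s hs => ?_⟩
  · rintro _ ⟨b, hb, hp, rfl⟩
    rw [card_subtype, filter_ne', card_erase_of_mem hp, hB.1 b hb]; rfl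
  · have hp : p ∉ s.map (Function.Embedding.subtype _) := by simp
    obtain ⟨b, ⟨hb, h⟩, hu⟩ := hB.2 (insert p (s.map (Function.Embedding.subtype _)))
      (by rw [card_insert_of_notMem hp, card_map, hs])
    refine ⟨_, ⟨⟨b, hb, h (mem_insert_self _ _), rfl⟩, fun q hq => ?_⟩, ?_⟩
    · rw [mem_subtype]; exact h (mem_insert_of_mem (mem_map_of_mem _ hq))
    · rintro _ ⟨⟨c, hc, hpc, rfl⟩, h'⟩
      rw [hu c ⟨hc, insert_subset hpc fun q hq => ?_⟩]
      obtain ⟨r, hr, rfl⟩ := mem_map.mp hq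
      exact mem_subtype.mp (h' hr)

end Cfsg.Agent.Steiner
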