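import Cfsg.Agent.Lib.Steiner.Mono

/-! The hexacode. -/

set_option autoImplicit false
set_option linter.unusedSectionVars false
set_option linter.unusedVariables false
set_option maxRecDepth 100000

namespace Cfsg.Agent.Steiner

open Finset Equiv

def a4 (a b : Fin 4) : Fin 4 := Fin.ofNat 4 (a.val ^^^ b.val)
def m4 (a b : Fin 4) : Fin 4 := if a = 0 ∨ b = 0 then 0 else Fin.ofNat 4 ((a.val + b.val + 1) % 3 + 1)
def l4 (u v w a b c : Fin 4) : Fin 4 := a4 (a4 (m4 a u) (m4 b v)) (m4 c w)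
def hx (a b c : Fin 4) (i : Fin 6) : Fin 4 :=
  l4 (![2, 3, 3, 2, 3, 2] i) (![3, 2, 2, 3, 3, 2] i) (![3, 2, 3, 2, 2, 3] i) a b c
def inH (y : Fin 6 → Fin 4) : Prop :=
  ∀ i, hx (l4 2 3 0 (y 0) (y 1) (y 2)) (l4 3 3 1 (y 0) (y 1) (y 2)) (l4 0 1 1 (y 0) (y 1) (y 2)) i = y i
instance (y : Fin 6 → Fin 4) : Decidable (inH y) := by unfold inH; infer_instance

theorem inH_hx : ∀ a b c, inH (hx a b c) := by decide +kernel

def dH : List (List (Fin 6) × List (Fin 4)) := [([0, 1, 0, 1, 0, 1, 0, 1], [1, 1, 1, 1, 1, 1]), ([0, 1, 0, 1, 0, 1, 4, 5], [1, 1, 1, 1, 1, 1]), ([0, 1, 0, 1, 0, 1, 0, 2], [1, 1, 1, 1, 3, 2]), 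
([0, 1, 0, 2, 0, 3, 4, 5], [1, 1, 1, 1, 3, 2]), ([0, 1, 0, 2, 0, 3, 0, 4], [1, 3, 2, 1, 3, 2]), ([0, 1, 0, 2, 0, 3, 0, 5], [1, 2, 3, 1, 3, 2]), 
([0, 1, 0, 1, 0, 1, 0, 1], [1, 1, 1, 1, 1, 1]), ([0, 1, 0, 1, 1, 2, 4, 5], [1, 1, 1, 1, 2, 3]), ([0, 1, 0, 1, 1, 2, 1, 3], [1, 1, 1, 1, 2, 3]), 
([1, 2, 1, 3, 1, 4, 4, 5], [1, 2, 3, 2, 3, 1]), ([1, 2, 1, 3, 1, 4, 1, 5], [1, 3, 2, 3, 1, 2]), ([0, 1, 0, 1, 0, 1, 0, 1], [1, 1, 1, 1, 1, 1]), 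
([0, 1, 0, 1, 2, 3, 4, 5], [1, 1, 1, 1, 1, 1]), ([0, 1, 0, 1, 2, 3, 2, 4], [1, 3, 2, 2, 2, 2]), ([0, 1, 0, 1, 2, 3, 2, 5], [1, 2, 3, 3, 3, 3]), 
([0, 1, 0, 1, 0, 1, 0, 1], [1, 1, 1, 1, 1, 1]), ([0, 1, 0, 1, 3, 4, 4, 5], [1, 3, 2, 2, 2, 2]), ([0, 1, 0, 1, 3, 4, 3, 5], [1, 2, 3, 3, 3, 3])]

def pH (t : List (Fin 6)) : Perm (Fin 6) :=
  (swap (t.getD 0 0) (t.getD 1 0) * swap (t.getD 2 0) (t.getD 3 0)) *
    (swap (t.getD 4 0) (t.getD 5 0) * swap (t.getD 6 0) (t.getD 7 0))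

def cH (t : List (Fin 4)) (p : Fin 6) : Fin 4 := t.getD p 0

theorem dH_ok : ∀ d ∈ dH, (∀ p, cH d.2 p ≠ 0) ∧ (inH fun p => m4 (cH d.2 p) (hx 1 0 0 (pH d.1 p))) ∧
    (inH fun p => m4 (cH d.2 p) (hx 0 1 0 (pH d.1 p))) ∧ (inH fun p => m4 (cH d.2 p) (hx 0 0 1 (pH d.1 p))) := by
  decide +kernel

theorem hx_lin : ∀ a b c i, hx a b c i = l4 (hx 1 0 0 i) (hx 0 1 0 i) (hx 0 0 1 i) a b c := by decide +kernel

theorem dH_even : ∀ d ∈ dH, Perm.sign (pH d.1) = 1 := fun d hd => by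
  have : ∀ d ∈ dH, d.1.getD 0 0 ≠ d.1.getD 1 0 ∧ d.1.getD 2 0 ≠ d.1.getD 3 0 ∧
    d.1.getD 4 0 ≠ d.1.getD 5 0 ∧ d.1.getD 6 0 ≠ d.1.getD 7 0 := by decide +kernel
  obtain ⟨h1, h2, h3, h4⟩ := this d hd
  simp only [pH, map_mul, Perm.sign_swap h1, Perm.sign_swap h2, Perm.sign_swap h3, Perm.sign_swap h4]
  rfl

theorem fix4 (τ : Perm (Fin 6)) (h : ∀ z ∈ [3, 2, 1, 0], τ z = z) (h1 : Perm.sign τ = 1) : τ = 1 := by
  have a0 := h 0 (by simp)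
  have a1 := h 1 (by simp)
  have a2 := h 2 (by simp)
  have a3 := h 3 (by simp)
  have k : ∀ a b : Fin 6, a ≠ 0 → a ≠ 1 → a ≠ 2 → a ≠ 3 → b ≠ 0 → b ≠ 1 → b ≠ 2 → b ≠ 3 → a ≠ b →
    (a = 4 ∧ b = 5) ∨ (a = 5 ∧ b = 4) := by decide
  have n : ∀ {a b c : Fin 6}, τ b = c → a ≠ b → τ a ≠ c := fun h1 h2 h3 => h2 (τ.injective (h3.trans h1.symm))
  rcases k (τ 4) (τ 5) (n a0 (by decide)) (n a1 (by decide)) (n a2 (by decide)) (n a3 (by decide))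
    (n a0 (by decide)) (n a1 (by decide)) (n a2 (by decide)) (n a3 (by decide)) (n rfl (by decide)) with h | h
  · ext i; fin_cases i <;> simp [*]
  · have : τ = swap 4 5 := by ext i; fin_cases i <;> simp [*, swap_apply_def]
    rw [this, Perm.sign_swap (by decide)] at h1
    exact absurd h1 (by decide)

theorem no_swap : ∀ c0 c1 c2 c3 c4 c5 : Fin 4, c0 ≠ 0 → c1 ≠ 0 → c2 ≠ 0 → c3 ≠ 0 → c4 ≠ 0 → c5 ≠ 0 →
    ¬ ((inH fun p => m4 (![c0, c1, c2, c3, c4, c5] p) (hx 1 0 0 (swap 0 1 p))) ∧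
      (inH fun p => m4 (![c0, c1, c2, c3, c4, c5] p) (hx 0 1 0 (swap 0 1 p))) ∧
      (inH fun p => m4 (![c0, c1, c2, c3, c4, c5] p) (hx 0 0 1 (swap 0 1 p)))) := by
  decide +kernel

theorem diag4 : ∀ c0 c1 c2 c3 c4 c5 : Fin 4, c0 ≠ 0 → c1 ≠ 0 → c2 ≠ 0 → c3 ≠ 0 → c4 ≠ 0 → c5 ≠ 0 →
    (inH fun p => m4 (![c0, c1, c2, c3, c4, c5] p) (hx 1 0 0 p)) →
      (inH fun p => m4 (![c0, c1, c2, c3, c4, c5] p) (hx 0 1 0 p)) →
      (inH fun p => m4 (![c0, c1, c2, c3, c4, c5] p) (hx 0 0 1 p)) →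
      ∀ i, ![c0, c1, c2, c3, c4, c5] i = c0 := by
  decide +kernel

variable {F : Type*} [Field F] [Fintype F] [DecidableEq F] {ω : F}

def ι4 (ω : F) : Fin 4 → F := ![0, 1, ω, ω ^ 2]

section
variable (hF : Fintype.card F = 4) (hω : ω ^ 2 + ω + 1 = 0)
include hF

theorem two4 : (2 : F) = 0 := by
  have : ((4 : ℕ) : F) = 0 := hF ▸ FiniteField.cast_card_eq_zero F
  have h : (2 : F) ^ 2 = 0 := by rw [← this]; norm_num
  exact pow_eq_zero_iff two_ne_zero |>.mp h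

include hω

theorem ι_add (a b : Fin 4) : ι4 ω (a4 a b) = ι4 ω a + ι4 ω b := by
  have h := two4 hF
  fin_cases a <;> fin_cases b <;> simp [ι4, a4, Fin.ofNat] <;> grind

theorem ι_mul (a b : Fin 4) : ι4 ω (m4 a b) = ι4 ω a * ι4 ω b := by
  have h := two4 hF
  fin_cases a <;> fin_cases b <;> simp [ι4, m4, Fin.ofNat] <;> grind

theorem ι_ne {a : Fin 4} (h : a ≠ 0) : ι4 ω a ≠ 0 := by
  have h0 : ω ≠ 0 := by rintro rfl; simp at hω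
  fin_cases a <;> simp_all [ι4]

theorem ι_inj : Function.Injective (ι4 ω) := fun a b h => by
  by_contra hab
  have : a4 a b ≠ 0 := (by decide : ∀ a b, ¬ a = b → a4 a b ≠ 0) a b hab
  refine ι_ne hF hω this ?_
  rw [ι_add hF hω, h, ← two_mul, two4 hF, zero_mul]

theorem ι_surj : Function.Surjective (ι4 ω) :=
  ((Fintype.bijective_iff_injective_and_card _).mpr ⟨ι_inj hF hω, by simp [hF]⟩).2

theorem ι_hx (a b c : Fin 4) : (fun i => ι4 ω (hx a b c i)) = ι4 ω a • ![ω, ω ^ 2, ω ^ 2, ω, ω ^ 2, ω] +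
    ι4 ω b • ![ω ^ 2, ω, ω, ω ^ 2, ω ^ 2, ω] + ι4 ω c • ![ω ^ 2, ω, ω ^ 2, ω, ω, ω ^ 2] := by
  funext i
  simp only [hx, l4, ι_add hF hω, ι_mul hF hω, Pi.add_apply, Pi.smul_apply, smul_eq_mul]
  fin_cases i <;> rfl

theorem mem_hexa {x : Fin 6 → F} : x ∈ hexacode F ω ↔ ∃ a b c, (fun i => ι4 ω (hx a b c i)) = x := by
  rw [hexacode, Submodule.mem_span_triple]
  simp only [ι_hx hF hω]
  constructor
  · rintro ⟨a, b, c, h⟩
    obtain ⟨a, rfl⟩ := ι_surj hF hω a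
    obtain ⟨b, rfl⟩ := ι_surj hF hω b
    obtain ⟨c, rfl⟩ := ι_surj hF hω c
    exact ⟨a, b, c, h⟩
  · rintro ⟨a, b, c, h⟩; exact ⟨_, _, _, h⟩

theorem mem_hexa' {y : Fin 6 → Fin 4} : (fun i => ι4 ω (y i)) ∈ hexacode F ω ↔ inH y := by
  rw [mem_hexa hF hω]
  refine ⟨fun ⟨a, b, c, h⟩ => ?_, fun h => ⟨_, _, _, funext fun i => congrArg _ (h i)⟩⟩
  have : hx a b c = y := funext fun i => ι_inj hF hω (congrFun h i)
  exact this ▸ inH_hx a b c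

theorem hexa_count (P : (Fin 6 → F) → Prop) (Q : Fin 4 × Fin 4 × Fin 4 → Prop) [DecidablePred Q]
    (h : ∀ a b c, P (fun i => ι4 ω (hx a b c i)) ↔ Q (a, b, c)) :
    {x | x ∈ hexacode F ω ∧ P x}.ncard = (univ.filter Q).card := by
  have hinj : Function.Injective fun (a : Fin 4 × Fin 4 × Fin 4) i => ι4 ω (hx a.1 a.2.1 a.2.2 i) := by
    have : ∀ a b : Fin 4 × Fin 4 × Fin 4, (∀ i, hx a.1 a.2.1 a.2.2 i = hx b.1 b.2.1 b.2.2 i) → a = b := by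
      decide +kernel
    exact fun a b h => this a b fun i => ι_inj hF hω (congrFun h i)
  rw [← Set.ncard_coe_finset, ← Set.ncard_image_of_injective _ hinj]
  congr 1; ext x
  simp only [mem_hexa hF hω, Set.mem_setOf_eq, Set.mem_image, coe_filter, mem_univ, true_and]
  exact ⟨fun ⟨⟨a, b, c, h1⟩, h'⟩ => ⟨(a, b, c), (h a b c).mp (h1 ▸ h'), h1⟩,
    fun ⟨a, h1, h'⟩ => ⟨⟨_, _, _, h'⟩, h' ▸ (h _ _ _).mpr h1⟩⟩

theorem hexa_wt (y : Fin 6 → Fin 4) :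
    (univ.filter fun i => ι4 ω (y i) ≠ 0) = univ.filter fun i => y i ≠ 0 :=
  filter_congr fun i _ => (ι_inj hF hω).ne_iff' rfl

theorem pres4 {σ : Perm (Fin 6)} {c : Fin 6 → Fˣ} (h : ∀ x ∈ hexacode F ω, monomialMap σ c x ∈ hexacode F ω) :
    ∃ d : Fin 6 → Fin 4, (∀ i, ι4 ω (d i) = c i) ∧ (∀ i, d i ≠ 0) ∧
      ∀ a b e, inH fun p => m4 (![d 0, d 1, d 2, d 3, d 4, d 5] p) (hx a b e (σ.symm p)) := by
  choose d hd using fun i => ι_surj hF hω (c i)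
  refine ⟨d, hd, fun i h0 => (c i).ne_zero (by rw [← hd, h0]; rfl), fun a b e => ?_⟩
  have e1 : ![d 0, d 1, d 2, d 3, d 4, d 5] = d := by funext i; fin_cases i <;> rfl
  rw [← mem_hexa' hF hω, e1]
  simp only [ι_mul hF hω, hd]
  exact h _ ((mem_hexa hF hω).mpr ⟨a, b, e, rfl⟩)

theorem hexa_diag (c : Fin 6 → Fˣ) (h : ∀ x ∈ hexacode F ω, monomialMap 1 c x ∈ hexacode F ω) (i j : Fin 6) :
    c i = c j := by
  obtain ⟨d, h1, h2, h3⟩ := pres4 hF hω h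
  have e1 : ![d 0, d 1, d 2, d 3, d 4, d 5] = d := by funext i; fin_cases i <;> rfl
  have := diag4 _ _ _ _ _ _ (h2 0) (h2 1) (h2 2) (h2 3) (h2 4) (h2 5) (h3 _ _ _) (h3 _ _ _) (h3 _ _ _)
  rw [e1] at this
  exact Units.ext (by rw [← h1, ← h1, this i, this j])

theorem sift_H (L : List (Fin 6)) (x : Fin 6)
    (h : x ∉ L ∧ ∀ y ∉ L, ∃ d ∈ dH, (∀ z ∈ L, pH d.1 z = z) ∧ pH d.1 x = y)
    (ih : ∀ σ ∈ alternatingGroup (Fin 6), (∀ z ∈ x :: L, σ z = z) → σ ∈ Mon (hexacode F ω)) :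
    ∀ σ ∈ alternatingGroup (Fin 6), (∀ z ∈ L, σ z = z) → σ ∈ Mon (hexacode F ω) :=
  sift_step L x h.1 (fun y hy => by
    obtain ⟨d, hd, h1, h2⟩ := h.2 y hy
    have h4 := dH_even d hd
    obtain ⟨h6, h7⟩ := dH_ok d hd
    obtain ⟨g, hg, h3⟩ := mem_Mon_of (C := hexacode F ω) (pH d.1) (pH d.1).injective (fun p => ι4 ω (cH d.2 p))
      (fun p => ι_ne hF hω (h6 p)) fun x hx' => by
        obtain ⟨a, b, c, rfl⟩ := (mem_hexa hF hω).mp hx'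
        have e : (fun p => ι4 ω (cH d.2 p) * ι4 ω (hx a b c (pH d.1 p))) =
            ι4 ω a • (fun p => ι4 ω (m4 (cH d.2 p) (hx 1 0 0 (pH d.1 p)))) +
            ι4 ω b • (fun p => ι4 ω (m4 (cH d.2 p) (hx 0 1 0 (pH d.1 p)))) +
            ι4 ω c • (fun p => ι4 ω (m4 (cH d.2 p) (hx 0 0 1 (pH d.1 p)))) := by
          funext p
          rw [hx_lin a b c]
          simp only [l4, ι_add hF hω, ι_mul hF hω, Pi.add_apply, Pi.smul_apply, smul_eq_mul]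
          ring
        rw [e]
        exact add_mem (add_mem (Submodule.smul_mem _ _ ((mem_hexa' hF hω).mpr h7.1))
          (Submodule.smul_mem _ _ ((mem_hexa' hF hω).mpr h7.2.1)))
          (Submodule.smul_mem _ _ ((mem_hexa' hF hω).mpr h7.2.2))
    have : g = pH d.1 := Equiv.ext h3
    exact ⟨g, hg, this ▸ h4, fun z hz => (h3 z).trans (h1 z hz), (h3 x).trans h2⟩) ih

theorem mon_hexa : Mon (hexacode F ω) = alternatingGroup (Fin 6) := by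
  have h1 : alternatingGroup (Fin 6) ≤ Mon (hexacode F ω) := fun σ hσ => by
    refine sift_H hF hω [] 0 (by decide +kernel) (sift_H hF hω _ 1 (by decide +kernel) (sift_H hF hω _ 2
      (by decide +kernel) (sift_H hF hω _ 3 (by decide +kernel) ?_))) σ hσ (by simp)
    intro τ hτ h
    rw [fix4 τ h hτ]; exact one_mem _
  refine le_antisymm (fun σ hσ => by_contra fun h => ?_) h1
  have h2 : σ⁻¹ * swap 0 1 ∈ alternatingGroup (Fin 6) := by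
    rw [Perm.mem_alternatingGroup] at h ⊢
    rw [map_mul, Perm.sign_inv, Perm.sign_swap (by decide), (Int.units_eq_one_or _).resolve_left h]; rfl
  obtain ⟨c, hc⟩ : swap 0 1 ∈ Mon (hexacode F ω) := by
    simpa using mul_mem hσ (h1 h2)
  obtain ⟨d, -, h3, h4⟩ := pres4 hF hω hc
  exact no_swap _ _ _ _ _ _ (h3 0) (h3 1) (h3 2) (h3 3) (h3 4) (h3 5) ⟨h4 _ _ _, h4 _ _ _, h4 _ _ _⟩

end

end Cfsg.Agent.Steiner
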