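import Cfsg.Agent.Lib.Steiner.Lin
import Cfsg.Agent.Lib.Steiner.Aut
import Cfsg.Agent.Lib.Spor.Key

/-! Invariant subspaces of the permutation module of `M24`. -/

set_option autoImplicit false
set_option linter.unusedSectionVars false
set_option linter.unusedVariables false

namespace Cfsg.Agent.Steiner

open Finset Cfsg.Agent.Spor Cfsg.Agent.PC MulAction
open scoped Pointwise symmDiff

theorem support_perm (σ : Equiv.Perm GolayPt) (w : GolayPt → ZMod 2) :
    support₂ (fun p => w (σ.symm p)) = σ • support₂ w := by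
  ext y
  obtain ⟨x, rfl⟩ := σ.surjective y
  rw [show σ x ∈ σ • support₂ w ↔ x ∈ support₂ w from Finset.smul_mem_smul_finset_iff σ]
  simp [mem_support₂]

structure InvF (D : Set (Finset GolayPt)) : Prop where
  emp : ∅ ∈ D
  xor : ∀ a ∈ D, ∀ b ∈ D, a ∆ b ∈ D
  act : ∀ g : M24, ∀ a ∈ D, g • a ∈ D

theorem invF_of (W : Submodule (ZMod 2) (GolayPt → ZMod 2))
    (hW : ∀ σ ∈ M24, ∀ w ∈ W, (fun p => w (σ.symm p)) ∈ W) : InvF (supports (W : Set (GolayPt → ZMod 2))) :=
  ⟨supports_emp W, supports_xor W, by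
    rintro g _ ⟨w, hw, rfl⟩
    exact ⟨_, hW g g.2 w hw, support_perm g w⟩⟩

theorem compl_oct {s : Finset GolayPt} (hs : s ∈ gC) (h : s.card = 16) : sᶜ ∈ octads :=
  mem_octads.mpr ⟨compl_mem_gC hs, by rw [card_compl, card_golayPt, h]⟩

theorem msmul_compl' (g : M24) (s : Finset GolayPt) : g • sᶜ = (g • s)ᶜ := by
  ext y
  obtain ⟨x, rfl⟩ := MulAction.surjective g y
  simp only [mem_compl, smul_mem_smul_finset_iff]

variable {D : Set (Finset GolayPt)}

theorem InvF.of_oct (h : InvF D) {o : Finset GolayPt} (ho : o ∈ octads) (hD : o ∈ D) : gC ⊆ D :=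
  gC_subset h.emp h.xor fun b hb => by
    obtain ⟨g, e⟩ := oct_trans ho (basis_oct b hb); exact e ▸ h.act g o hD

theorem InvF.of_cw (h : InvF D) {s : Finset GolayPt} (hs : s ∈ gC) (hD : s ∈ D) (h0 : s ≠ ∅) (h1 : s ≠ univ) :
    gC ⊆ D := by
  rcases card_of_mem_gC hs with e | e | e | e | e
  · exact absurd (card_eq_zero.mp e) h0
  · exact h.of_oct (mem_octads.mpr ⟨hs, e⟩) hD
  · have hd := mem_dodecads.mpr ⟨hs, e⟩
    obtain ⟨g, e1⟩ := dod_trans hd (bset_dod (n := 8245261) (by decide +kernel))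
    obtain ⟨g', e2⟩ := dod_trans hd (bset_dod (n := 15953934) (by decide +kernel))
    refine h.of_oct (bset_oct (n := 8245261 ^^^ 15953934) (by decide +kernel)) ?_
    rw [bset_xor, ← e1, ← e2]; exact h.xor _ (h.act _ _ hD) _ (h.act _ _ hD)
  · have hd := compl_oct hs e
    obtain ⟨g, e1⟩ := oct_trans hd (bset_oct (n := 13062145) (by decide +kernel))
    obtain ⟨g', e2⟩ := oct_trans hd (bset_oct (n := 4845570) (by decide +kernel))
    refine h.of_oct (bset_oct (n := 13062145 ^^^ 4845570) (by decide +kernel)) ?_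
    rw [bset_xor, ← e1, ← e2, msmul_compl', msmul_compl', compl_symmDiff_compl]
    exact h.xor _ (h.act _ _ hD) _ (h.act _ _ hD)
  · exact absurd (eq_univ_of_card s (e.trans card_golayPt.symm)) h1

theorem exists_move {u : Finset GolayPt} (hu : u.card ≤ 4) {p q : GolayPt} (hp : p ∉ u) (hq : q ∉ u) :
    ∃ g : M24, (∀ x ∈ u, g • x = x) ∧ g • p = q := by
  obtain ⟨g, h1, h2⟩ := exists_fix u (k := 1) (by omega) (fun _ => p) (fun _ => q)
    (Function.injective_of_subsingleton _) (Function.injective_of_subsingleton _) (fun _ => hp) (fun _ => hq)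
  exact ⟨g, h1, h2 0⟩

theorem InvF.pair (h : InvF D) {u : Finset GolayPt} (hu : u.card ≤ 4) (h0 : u ≠ ∅) (hD : u ∈ D ∨ uᶜ ∈ D)
    {p q : GolayPt} (hpq : p ≠ q) : {p, q} ∈ D := by
  obtain ⟨a, ha⟩ := nonempty_iff_ne_empty.mpr h0
  obtain ⟨b, hb⟩ : uᶜ.Nonempty := card_pos.mp (by rw [card_compl, card_golayPt]; omega)
  rw [mem_compl] at hb
  have := card_erase_of_mem ha
  obtain ⟨g, h1, h2⟩ := exists_move (u := u.erase a) (by omega) (notMem_erase a u) (mt mem_of_mem_erase hb)
  have e : g • u = insert b (u.erase a) := by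
    conv_lhs => rw [← insert_erase ha, smul_finset_insert, h2]
    exact congrArg _ (smul_eq_of_fix' h1)
  have e2 : u ∆ (g • u) = {a, b} := by
    rw [e]; ext x
    simp only [mem_symmDiff, mem_insert, mem_erase, mem_singleton]
    by_cases hx : x = a
    · subst hx; simp [ha, show x ≠ b from fun h => hb (h ▸ ha)]
    · by_cases hx' : x = b
      · subst hx'; simp [hb]
      · simp [hx, hx']
  have h3 : {a, b} ∈ D := by
    rw [← e2]
    rcases hD with hD | hD
    · exact h.xor _ hD _ (h.act _ _ hD)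
    · rw [← compl_symmDiff_compl, ← msmul_compl']; exact h.xor _ hD _ (h.act _ _ hD)
  obtain ⟨k, h4, h5⟩ := map2 (show a ≠ b from fun h => hb (h ▸ ha)) hpq
  have := h.act k _ h3
  rwa [smul_finset_insert, smul_finset_singleton, h4, h5] at this

theorem exists_small (s : Finset GolayPt) : ∃ u : Finset GolayPt, u.card ≤ 4 ∧ s ∆ u ∈ gC := by
  obtain ⟨n, hn, rfl⟩ := exists_bset s
  obtain ⟨t, h2, h3, h4⟩ := mw_spec hn
  exact ⟨t, by omega, h4⟩

theorem InvF.pair' (h : InvF D) {s : Finset GolayPt} (hs : s ∉ gC) (hD : s ∈ D)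
    {p q : GolayPt} (hpq : p ≠ q) : {p, q} ∈ D := by
  obtain ⟨u, hu, hc⟩ := exists_small s
  have h0 : u ≠ ∅ := by rintro rfl; exact hs (by rwa [← bot_eq_empty, symmDiff_bot] at hc)
  obtain ⟨c, rfl⟩ : ∃ c, s = c ∆ u := ⟨s ∆ u, by rw [symmDiff_assoc, symmDiff_self, symmDiff_bot]⟩
  rw [symmDiff_assoc, symmDiff_self, symmDiff_bot] at hc
  by_cases h1 : c = ∅
  · exact h.pair hu h0 (Or.inl (by rwa [h1, ← bot_eq_empty, bot_symmDiff] at hD)) hpq
  by_cases h2 : c = univ
  · exact h.pair hu h0 (Or.inr (by rwa [h2, ← top_eq_univ, top_symmDiff] at hD)) hpq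
  have hG : gC ⊆ D := by
    have h3 := card_of_mem_gC hc
    have h4 : c.card ≠ 0 := by simpa using h1
    have h5 : c.card ≠ 24 := fun e => h2 (eq_univ_of_card c (e.trans card_golayPt.symm))
    obtain ⟨a, ha⟩ : (c \ u).Nonempty := card_pos.mp (by have := le_card_sdiff u c; omega)
    obtain ⟨b, hb⟩ : (c ∪ u)ᶜ.Nonempty := card_pos.mp (by
      have := card_union_le c u; rw [card_compl, card_golayPt]; omega)
    rw [mem_sdiff] at ha
    rw [mem_compl, mem_union, not_or] at hb
    obtain ⟨g, h6, h7⟩ := exists_move hu ha.2 hb.2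
    have e : (c ∆ u) ∆ (g • (c ∆ u)) = c ∆ (g • c) := by
      rw [msmul_symmDiff, show g • u = u from smul_eq_of_fix' h6]
      ext x; simp only [mem_symmDiff]; tauto
    refine h.of_cw (symmDiff_mem_gC hc (msmul_mem_gC g hc)) (e ▸ h.xor _ hD _ (h.act _ _ hD)) (fun e2 => ?_)
      fun e2 => ?_
    · exact hb.1 (symmDiff_eq_bot.mp e2 ▸ h7 ▸ smul_mem_smul_finset ha.1)
    · obtain ⟨x, hx⟩ := nonempty_iff_ne_empty.mpr h0
      have h8 : x ∈ g • c ↔ x ∈ c := by
        conv_lhs => rw [← h6 x hx]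
        exact smul_mem_smul_finset_iff g
      have h9 : x ∈ c ∆ (g • c) := e2 ▸ mem_univ x
      rw [mem_symmDiff, h8] at h9; tauto
  refine h.pair hu h0 (Or.inl ?_) hpq
  have := h.xor _ (hG hc) _ hD
  rwa [← symmDiff_assoc, symmDiff_self, bot_symmDiff] at this

theorem InvF.even (h : InvF D) (hp : ∀ p q : GolayPt, p ≠ q → {p, q} ∈ D) (s : Finset GolayPt) :
    (if Even s.card then s else s ∆ {none}) ∈ D := by
  induction s using Finset.induction_on with
  | empty => simpa using h.emp
  | insert a s ha ih =>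
    have h1 : {a} ∆ {none} ∈ D := by
      by_cases h2 : a = none
      · rw [h2, symmDiff_self]; exact h.emp
      · have : ({a} : Finset GolayPt) ∆ {none} = {a, none} := by
          ext x; simp only [mem_symmDiff, mem_insert, mem_singleton]; grind
        rw [this]; exact hp _ _ h2
    have h2 := h.xor _ ih _ h1
    have e : insert a s = s ∆ {a} := by ext x; simp only [mem_symmDiff, mem_insert, mem_singleton]; grind
    rw [card_insert_of_notMem ha, e]
    by_cases h3 : Even s.card
    · rw [if_pos h3] at h2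
      rwa [if_neg (by rw [Nat.even_add_one]; exact not_not.mpr h3), symmDiff_assoc]
    · rw [if_neg h3] at h2
      rw [if_pos (Nat.even_add_one.mpr h3)]
      have : s ∆ {none} ∆ ({a} ∆ {none}) = s ∆ {a} := by ext x; simp only [mem_symmDiff]; tauto
      rwa [this] at h2

theorem InvF.cases (h : InvF D) : D = {∅} ∨ D = {∅, univ} ∨ D = gC ∨ D = {s | Even s.card} ∨ D = Set.univ := by
  by_cases h1 : D ⊆ gC
  · by_cases h2 : ∃ s ∈ D, s ≠ ∅ ∧ s ≠ univ
    · obtain ⟨s, hs, h3, h4⟩ := h2
      exact Or.inr (Or.inr (Or.inl (h1.antisymm (h.of_cw (h1 hs) hs h3 h4))))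
    · replace h2 : ∀ s ∈ D, s ≠ ∅ → s = univ := fun s hs h3 => by_contra fun h4 => h2 ⟨s, hs, h3, h4⟩
      by_cases h3 : univ ∈ D
      · right; left
        refine Set.Subset.antisymm (fun s hs => ?_) (Set.insert_subset h.emp (Set.singleton_subset_iff.mpr h3))
        exact or_iff_not_imp_left.mpr (h2 s hs)
      · left
        exact Set.eq_singleton_iff_unique_mem.mpr ⟨h.emp, fun s hs => by_contra fun h4 => h3 (h2 s hs h4 ▸ hs)⟩
  · obtain ⟨s, hs, h2⟩ := Set.not_subset.mp h1
    have h3 := h.even fun p q hpq => h.pair' h2 hs hpq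
    by_cases h4 : ∀ s ∈ D, Even s.card
    · exact Or.inr (Or.inr (Or.inr (Or.inl (Set.Subset.antisymm h4 fun t ht => by
        have := h3 t; rwa [if_pos (show Even t.card from ht)] at this))))
    · push Not at h4
      obtain ⟨t, ht, h4⟩ := h4
      have h5 := h.xor _ ht _ (h3 t)
      rw [if_neg h4, ← symmDiff_assoc, symmDiff_self, bot_symmDiff] at h5
      refine Or.inr (Or.inr (Or.inr (Or.inr (Set.eq_univ_of_forall fun u => ?_))))
      have h6 := h3 u
      split_ifs at h6
      · exact h6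
      · have := h.xor _ h6 _ h5
        rwa [symmDiff_assoc, symmDiff_self, symmDiff_bot] at this

theorem support_one : support₂ (fun _ : GolayPt => (1 : ZMod 2)) = univ := by ext; simp [mem_support₂]

theorem sub_cases (W : Submodule (ZMod 2) (GolayPt → ZMod 2))
    (hW : ∀ σ ∈ M24, ∀ w ∈ W, (fun p => w (σ.symm p)) ∈ W) :
    W = ⊥ ∨ W = Submodule.span (ZMod 2) {fun _ => (1 : ZMod 2)} ∨ W = golayCode ∨
      (W : Set (GolayPt → ZMod 2)) = {w | ∑ p, w p = 0} ∨ W = ⊤ := by
  have key : ∀ w, w ∈ W ↔ support₂ w ∈ supports (W : Set (GolayPt → ZMod 2)) := fun w => support_mem.symm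
  refine (invF_of W hW).cases.imp (fun h => ?_) (Or.imp (fun h => ?_) (Or.imp (fun h => ?_)
    (Or.imp (fun h => ?_) fun h => ?_)))
  · ext w; rw [key, h, Set.mem_singleton_iff, ← support_zero]
    exact ⟨support_inj, fun h => congrArg _ h⟩
  · ext w
    rw [key, h, Submodule.mem_span_singleton, Set.mem_insert_iff, Set.mem_singleton_iff, ← support_zero,
      ← support_one]
    constructor
    · rintro (h | h)
      exacts [⟨0, by rw [support_inj h]; simp⟩, ⟨1, by rw [support_inj h]; simp⟩]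
    · rintro ⟨a, rfl⟩
      rcases (by decide : ∀ a : ZMod 2, a = 0 ∨ a = 1) a with rfl | rfl <;> simp
  · ext w; rw [key, h, support_mem_gC]
  · ext w
    have := sum_mul_eq w fun _ => 1
    simp only [mul_one, support_one, inter_univ] at this
    rw [SetLike.mem_coe, key, h, Set.mem_setOf_eq, Set.mem_setOf_eq, this, ZMod.natCast_eq_zero_iff,
      even_iff_two_dvd]
  · ext w; rw [key, h]; simp

theorem card_stab_small {t : Finset GolayPt} (h : t.card ≤ 5) {k : ℕ} (hk : 244823040 = Nat.choose 24 t.card * k) :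
    Nat.card (stabilizer M24 t) = k :=
  card_stab (n := Nat.choose 24 t.card) (card_M24.trans hk) (Nat.choose_pos (by omega)) (by
    have : orbit M24 t = ((powersetCard t.card univ : Finset (Finset GolayPt)) : Set (Finset GolayPt)) := by
      ext s
      simp only [mem_coe, mem_powersetCard, subset_univ, true_and, mem_orbit_iff]
      exact ⟨fun ⟨g, e⟩ => by rw [← e, card_smul_finset], fun e => mapSet e.symm h⟩
    rw [this, Set.ncard_coe_finset, card_powersetCard, card_univ, card_golayPt])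

theorem card_stab_cw {u : Finset GolayPt} (hu : u ∈ gC) : Nat.card (stabilizer M24 u) = 244823040 ∨
    Nat.card (stabilizer M24 u) = 322560 ∨ Nat.card (stabilizer M24 u) = 95040 := by
  have hc : stabilizer M24 uᶜ = stabilizer M24 u := by
    ext g; rw [mem_stabilizer_iff, mem_stabilizer_iff, msmul_compl', compl_inj_iff]
  rcases card_of_mem_gC hu with e | e | e | e | e
  · exact Or.inl (card_stab_small (by omega) (by rw [e]; rfl))
  · exact Or.inr (Or.inl (card_stab_oct (mem_octads.mpr ⟨hu, e⟩)))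
  · exact Or.inr (Or.inr (card_stab_dod (mem_dodecads.mpr ⟨hu, e⟩)))
  · exact Or.inr (Or.inl (hc ▸ card_stab_oct (compl_oct hu e)))
  · have e' : uᶜ.card = 0 := by rw [card_compl, card_golayPt, e]
    exact Or.inl (hc ▸ card_stab_small (by omega) (by rw [e']; rfl))

end Cfsg.Agent.Steiner
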