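import Cfsg.Prelude.Def_SporadicCombinatorics

/-! Monomial automorphisms of linear codes. -/

set_option autoImplicit false
set_option linter.unusedSectionVars false
set_option linter.unusedVariables false

namespace Cfsg.Agent.Steiner

open Equiv

variable {α F : Type*} [Field F] [Finite α] [Finite F] (C : Submodule F (α → F))

theorem mono_comp (σ τ : Perm α) (c d : α → Fˣ) (x : α → F) :
    monomialMap σ c (monomialMap τ d x) = monomialMap (σ * τ) (fun i => c i * d (σ.symm i)) x := by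
  funext i; simp [monomialMap, mul_assoc, Perm.mul_def]

theorem mono_one (x : α → F) : monomialMap 1 1 x = x := by funext i; simp [monomialMap, Perm.one_def]

def Mon : Subgroup (Perm α) where
  carrier := {σ | ∃ c : α → Fˣ, ∀ x ∈ C, monomialMap σ c x ∈ C}
  one_mem' := ⟨1, fun x hx => by rwa [mono_one]⟩
  mul_mem' := by
    rintro σ τ ⟨c, hc⟩ ⟨d, hd⟩
    exact ⟨_, fun x hx => mono_comp σ τ c d x ▸ hc _ (hd x hx)⟩
  inv_mem' := by
    intro σ hσ
    have : ∀ n : ℕ, σ ^ n ∈ {σ : Perm α | ∃ c : α → Fˣ, ∀ x ∈ C, monomialMap σ c x ∈ C} := by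
      intro n
      induction n with
      | zero => exact ⟨1, fun x hx => by rwa [pow_zero, mono_one]⟩
      | succ n ih =>
        obtain ⟨c, hc⟩ := ih
        obtain ⟨d, hd⟩ := hσ
        rw [pow_succ]
        exact ⟨_, fun x hx => mono_comp _ σ c d x ▸ hc _ (hd x hx)⟩
    have h : σ⁻¹ = σ ^ (orderOf σ - 1) := by
      rw [inv_eq_iff_mul_eq_one, ← pow_succ', Nat.sub_add_cancel (orderOf_pos σ), pow_orderOf_eq_one]
    rw [h]; exact this _

variable {C}

theorem mono_inj (σ : Perm α) (c : α → Fˣ) : Function.Injective (monomialMap σ c) := fun x y h => by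
  funext i
  have := congrFun h (σ i)
  simpa [monomialMap] using this

theorem pres_surj {σ : Perm α} {c : α → Fˣ} (h : ∀ x ∈ C, monomialMap σ c x ∈ C) :
    ∀ y ∈ C, ∃ x ∈ C, monomialMap σ c x = y := fun y hy =>
  ((Set.toFinite (C : Set (α → F))).injOn_iff_bijOn_of_mapsTo h).mp (mono_inj σ c).injOn |>.surjOn hy

theorem card_pairs : Nat.card {f : Perm α × (α → Fˣ) // ∀ x ∈ C, monomialMap f.1 f.2 x ∈ C} =
    Nat.card (Mon C) * Nat.card {c : α → Fˣ // ∀ x ∈ C, monomialMap 1 c x ∈ C} := by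
  rw [← Nat.card_prod]
  have h : ∀ σ : Mon C, ∃ c : α → Fˣ, ∀ x ∈ C, monomialMap σ.1 c x ∈ C := fun σ => σ.2
  choose s hs using h
  have e : ∀ (σ : Perm α) (c d : α → Fˣ) (x : α → F),
      monomialMap σ (d * c) x = monomialMap 1 d (monomialMap σ c x) := fun σ c d x => by
    funext i; simp [monomialMap, mul_assoc, Perm.one_def]
  symm
  refine Nat.card_congr (Equiv.ofBijective
    (fun p => ⟨(p.1.1, p.2.1 * s p.1), fun x hx => by rw [e]; exact p.2.2 _ (hs _ x hx)⟩) ⟨?_, ?_⟩)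
  · rintro ⟨σ, c⟩ ⟨τ, d⟩ h
    simp only [Subtype.mk.injEq, Prod.mk.injEq] at h
    obtain rfl : σ = τ := Subtype.ext h.1
    rw [Subtype.ext (mul_right_cancel h.2 : c.1 = d.1)]
  · rintro ⟨⟨σ, c⟩, h⟩
    refine ⟨(⟨σ, c, h⟩, ⟨c * (s ⟨σ, c, h⟩)⁻¹, fun y hy => ?_⟩), by simp⟩
    obtain ⟨x, hx, rfl⟩ := pres_surj (hs ⟨σ, c, h⟩) y hy
    rw [← e, inv_mul_cancel_right]; exact h x hx

theorem mem_Mon_of (f : α → α) (hf : Function.Injective f) (c : α → F) (hc : ∀ p, c p ≠ 0)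
    (h : ∀ x ∈ C, (fun p => c p * x (f p)) ∈ C) : ∃ g ∈ Mon C, ∀ p, g p = f p :=
  ⟨Equiv.ofBijective f (Finite.injective_iff_bijective.mp hf), by
    rw [← inv_mem_iff]
    exact ⟨fun p => Units.mk0 (c p) (hc p), h⟩, fun _ => rfl⟩

theorem sift_step {X : Type*} {M A : Subgroup (Perm X)} (L : List X) (x : X) (hx : x ∉ L)
    (h : ∀ y ∉ L, ∃ g ∈ M, g ∈ A ∧ (∀ z ∈ L, g z = z) ∧ g x = y)
    (ih : ∀ σ ∈ A, (∀ z ∈ x :: L, σ z = z) → σ ∈ M) : ∀ σ ∈ A, (∀ z ∈ L, σ z = z) → σ ∈ M := by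
  intro σ hσ hL
  obtain ⟨g, h1, h2, h3, h4⟩ := h (σ x) fun h => hx (σ.injective (hL _ h) ▸ h)
  have := ih (g⁻¹ * σ) (A.mul_mem (A.inv_mem h2) hσ) fun z hz => by
    rw [Perm.mul_apply, Perm.inv_eq_iff_eq]
    rcases List.mem_cons.mp hz with rfl | hz
    · exact h4.symm
    · rw [hL z hz, h3 z hz]
  exact (M.mul_mem_cancel_left (M.inv_mem h1)).mp this

end Cfsg.Agent.Steiner
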