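import Cfsg.Agent.Lib.Steiner.Inv
import Cfsg.Agent.Lib.Steiner.HS

/-! Hyperovals in the projective plane of order four. -/

set_option autoImplicit false
set_option linter.unusedSectionVars false
set_option linter.unusedVariables false

namespace Cfsg.Agent.Steiner

open Finset Cfsg.Agent.Spor Cfsg.Agent.PC MulAction
open scoped Pointwise symmDiff

variable {α : Type*} [Fintype α] [DecidableEq α] {L : Set (Finset α)} {j : α ↪ GolayPt}

def Arc (L : Set (Finset α)) (k : ℕ) (S : Finset α) : Prop := S.card = k ∧ ∀ l ∈ L, (l ∩ S).card ≤ 2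

abbrev I0 : Finset GolayPt := bset 8388611

theorem I0_card : I0.card = 3 := by rw [card_bset]; decide +kernel

def pre (j : α ↪ GolayPt) (o : Finset GolayPt) : Finset α := univ.filter (j · ∈ o)

theorem mem_pre {o : Finset GolayPt} {a : α} : a ∈ pre j o ↔ j a ∈ o := by simp [pre]

theorem Emb.card_inter {I : Finset GolayPt} (h : Emb L I j) (l : Finset α) (s : Finset GolayPt) :
    ((l.map j ∪ I) ∩ s).card = (l ∩ pre j s).card + (s ∩ I).card := by
  rw [union_inter_distrib_right, card_union_of_disjoint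
    ((map_disj h.rng l).mono inter_subset_left inter_subset_left), inter_comm I, ← card_map j]
  congr 2; ext x
  simp only [mem_inter, mem_map, mem_pre]
  exact ⟨fun ⟨⟨a, h1, h2⟩, h3⟩ => ⟨a, ⟨h1, h2 ▸ h3⟩, h2⟩, fun ⟨a, h1, h2⟩ => ⟨⟨a, h1.1, h2⟩, h2 ▸ h1.2⟩⟩

theorem Emb.card_pre {I : Finset GolayPt} (h : Emb L I j) (s : Finset GolayPt) :
    s.card = (pre j s).card + (s ∩ I).card := by
  have := h.card_inter univ s
  rwa [univ_inter, show univ.map j ∪ I = univ from eq_univ_of_forall fun x => by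
    by_cases hx : x ∈ I
    · exact mem_union_right _ hx
    · obtain ⟨a, rfl⟩ := (h.rng x).mpr hx; simp, univ_inter] at this

theorem Emb.oval (h : Emb L I0 j) {o : Finset GolayPt} (ho : o ∈ octads) (h2 : (o ∩ I0).card = 2) :
    Arc L 6 (pre j o) := by
  have h1 := h.card_pre o
  rw [ho.2] at h1
  refine ⟨by omega, fun l hl => ?_⟩
  have h3 := h.card_inter l o
  rcases oct_inter ((h.mem l).mp hl) ho with e | e | e | e
  any_goals omega
  rw [← e, inter_eq_right.mpr subset_union_right, I0_card] at h2; omega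

theorem even_oval (hα : Fintype.card α = 21) (hL : IsSteinerSystem 2 5 L) {H : Finset α} (hH : Arc L 6 H)
    {l : Finset α} (hl : l ∈ L) : (l ∩ H).card ≠ 1 := by
  intro h1
  obtain ⟨p, hp⟩ := card_eq_one.mp h1
  have hp' := mem_inter.mp (hp ▸ mem_singleton_self p)
  have lam := st_lam hL hα lam21 (by decide)
  have s1 := sum_inter (blks L (p ∈ ·)) (H.erase p)
  have c5 : (blks L (p ∈ ·)).card = 5 := by
    have := lam {p} (by simp)
    rwa [blks_congr (Q := (p ∈ ·)) (by simp)] at this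
  have s2 : ∀ q ∈ H.erase p, ((blks L (p ∈ ·)).filter (q ∈ ·)).card = 1 := fun q hq => by
    have hne := (ne_of_mem_erase hq).symm
    have := lam {p, q} (by rw [card_pair hne])
    rwa [blks_congr (Q := fun d => p ∈ d ∧ q ∈ d) (by simp [insert_subset_iff]), card_pair hne,
      ← blks_filter] at this
  have hm : l ∈ blks L (p ∈ ·) := mem_blks.mpr ⟨hl, hp'.1⟩
  rw [sum_congr rfl s2, sum_const, card_erase_of_mem hp'.2, hH.1, ← add_sum_erase _ _ hm, inter_erase, hp,
    erase_singleton] at s1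
  have s3 := sum_le_card_nsmul ((blks L (p ∈ ·)).erase l) (fun d => (d ∩ H.erase p).card) 1 fun d hd => by
    have hd' := mem_blks.mp (mem_of_mem_erase hd)
    have := hH.2 d hd'.1
    rw [inter_erase, card_erase_of_mem (mem_inter.mpr ⟨hd'.2, hp'.2⟩)]; omega
  rw [card_erase_of_mem hm, c5] at s3
  simp only [card_empty, smul_eq_mul] at s1 s3; omega

def L21 : List ℕ := [9347075, 14716939, 12656663, 8536111, 13893731, 9465987, 11731203, 8524371, 10765331, 9963547]

theorem mem_gC_L21 {a : Finset GolayPt} (h : ∀ b ∈ 13938692 :: 1302533 :: L21, Even (a ∩ bset b).card) :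
    a ∈ gC := by
  refine mem_gC_of_even fun b hb => ?_
  have : gBasis = [3, 7, 1, 12, 21, 41, 109, 132, 260, 636, 1041, 2077].map (sel (13938692 :: 1302533 :: L21)) := by
    decide +kernel
  rw [this] at hb
  obtain ⟨k, -, rfl⟩ := List.mem_map.mp hb
  exact sel_induction (P := fun n => Even (a ∩ bset n).card) (by simp [bset_zero])
    (fun c b ha hb => by
      rw [bset_xor, inter_comm]; exact even_symmDiff (inter_comm a _ ▸ ha) (inter_comm a _ ▸ hb)) _ h k

theorem JL : ∀ J ∈ [0, 8388609, 8388610, 3], J < 2 ^ 24 ∧ bset J ⊆ I0 ∧ (bset J).card = if J = 0 then 0 else 2 := by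
  have : ∀ J ∈ [0, 8388609, 8388610, 3], J < 2 ^ 24 ∧ J &&& 8388611 = J ∧ pop J = if J = 0 then 0 else 2 := by
    decide +kernel
  intro J hJ
  obtain ⟨h1, h2, h3⟩ := this J hJ
  exact ⟨h1, (bset_subset_iff h1).mpr h2, by rw [card_bset, h3]⟩

def lines21 : List ℕ := [9347075, 14716939, 12656663, 8536111, 13893731, 9465987, 11010247, 11731203, 8421811,
  8524371, 8716939, 13124355, 10765331, 8983587, 8398155, 9471495, 9963547, 8505411, 8657159, 10496547, 12717187]

theorem lines_ok : ∀ b ∈ lines21, bset b ∈ octads ∧ I0 ⊆ bset b := fun b hb =>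
  ⟨bset_oct (by revert b; decide +kernel), by rw [bset_subset_iff (by norm_num)]; revert b; decide⟩

theorem pre_map (h : Emb L I0 j) (H : Finset α) {J : Finset GolayPt} (hJ : J ⊆ I0) :
    pre j (H.map j ∆ J) = H ∧ (H.map j ∆ J) ∩ I0 = J := by
  constructor
  · ext a
    have : j a ∉ J := fun h' => (h.rng _).mp ⟨a, rfl⟩ (hJ h')
    simp [mem_pre, mem_symmDiff, this]
  · ext x
    have h1 : x ∈ H.map j → x ∉ I0 := fun h' => disjoint_left.mp (map_disj h.rng H) h'
    have h2 := @hJ x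
    simp only [mem_inter, mem_symmDiff]; tauto

theorem Emb.oct_of_oval (hα : Fintype.card α = 21) (hL : IsSteinerSystem 2 5 L) (h : Emb L I0 j)
    {H : Finset α} (hH : Arc L 6 H) : ∃ o ∈ octads, (o ∩ I0).card = 2 ∧ pre j o = H := by
  have par : ∀ a b c : Finset GolayPt, Even ((a ∩ c).card + (b ∩ c).card) → Even ((a ∆ b) ∩ c).card := by
    intro a b c h
    have e : (a ∆ b) ∩ c = (a ∩ c) ∆ (b ∩ c) := inf_symmDiff_distrib_right a b c
    have := card_symmDiff' (a ∩ c) (b ∩ c)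
    rw [e]; rw [Nat.even_iff] at *; omega
  have hJ : ∀ x y : ℕ, ∃ J ∈ [0, 8388609, 8388610, 3], Even (x + pop (J &&& 13938692)) ∧
      Even (y + pop (J &&& 1302533)) := by
    have : ∀ x < 2, ∀ y < 2, ∃ J ∈ [0, 8388609, 8388610, 3], (x + pop (J &&& 13938692)) % 2 = 0 ∧
      (y + pop (J &&& 1302533)) % 2 = 0 := by decide +kernel
    intro x y
    obtain ⟨J, h1, h2, h3⟩ := this (x % 2) (by omega) (y % 2) (by omega)
    exact ⟨J, h1, Nat.even_iff.mpr (by omega), Nat.even_iff.mpr (by omega)⟩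
  obtain ⟨J, h1, h2, h3⟩ := hJ (H.map j ∩ bset 13938692).card (H.map j ∩ bset 1302533).card
  have h4 : bset J ⊆ I0 ∧ ((bset J).card = 0 ∨ (bset J).card = 2) := by
    obtain ⟨-, a, b⟩ := JL J h1
    refine ⟨a, ?_⟩; split_ifs at b <;> omega
  obtain ⟨h5, h6⟩ := pre_map h H h4.1
  have h7 : H.map j ∆ bset J ∈ gC := mem_gC_L21 fun b hb => by
    rcases List.mem_cons.mp hb with rfl | hb
    · exact par _ _ _ (by rwa [← bset_and, card_bset])
    rcases List.mem_cons.mp hb with rfl | hb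
    · exact par _ _ _ (by rwa [← bset_and, card_bset])
    obtain ⟨a1, a2⟩ := lines_ok b ((by decide : ∀ b ∈ L21, b ∈ lines21) b hb)
    obtain ⟨l, e⟩ := exists_map h.rng a2
    have hl := (h.mem l).mpr (e ▸ a1)
    have a3 := hH.2 l hl
    have a4 := even_oval hα hL hH hl
    rw [← e, inter_comm, h.card_inter, h5, h6, Nat.even_iff]; omega
  have h8 := h.card_pre (H.map j ∆ bset J)
  have h9 := card_of_mem_gC h7
  rw [h5, h6, hH.1] at h8
  exact ⟨_, mem_octads.mpr ⟨h7, by omega⟩, by rw [h6]; omega, h5⟩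

noncomputable def arcE (S : ℕ) : ℕ := frc S fun S => andE (eqI (Nat.land S (nat_lit 8388611)) (nat_lit 0))
  (andE (exL (fun l => ltE (nat_lit 2) (pop (Nat.land l S))) lines21)
    (exL (fun J => Nat.xor (mw (Nat.lor S J)) (nat_lit 2)) [8388609, 8388610, 3]))

theorem arc_chk : lin (fun w => lin (fun z => lin (fun y => lin (fun x => arcE
    (Nat.lor (Nat.lor (Nat.lor (Nat.shiftLeft 1 x) (Nat.shiftLeft 1 y)) (Nat.shiftLeft 1 z)) (Nat.shiftLeft 1 w)))
    0 y) 0 z) 0 w) 0 24 = 0 := beq0 (by decide +kernel)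

theorem four_sorted {o : Finset GolayPt} (h : o.card = 4) :
    ∃ x y z w, x < y ∧ y < z ∧ z < w ∧ w < 24 ∧ o = {gp x} ∪ {gp y} ∪ {gp z} ∪ {gp w} := by
  have h1 : (o.image gi).card = 4 := by rw [card_image_of_injective _ fun _ _ => gi_inj, h]
  let f := (o.image gi).orderEmbOfFin h1
  have h2 : ∀ i, ∃ p ∈ o, gi p = f i := fun i => mem_image.mp (orderEmbOfFin_mem _ h1 i)
  refine ⟨f 0, f 1, f 2, f 3, f.strictMono (by decide), f.strictMono (by decide), f.strictMono (by decide), ?_, ?_⟩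
  · obtain ⟨p, -, e⟩ := h2 3; exact e ▸ gi_lt p
  · ext p
    simp only [mem_union, mem_singleton]
    constructor
    · intro hp
      obtain ⟨i, hi⟩ : gi p ∈ Set.range f := by rw [range_orderEmbOfFin]; exact mem_image_of_mem _ hp
      rw [← gp_gi p, ← hi]
      fin_cases i <;> simp
    · have : ∀ i, gp (f i) ∈ o := fun i => by obtain ⟨p, hp, e⟩ := h2 i; rwa [← e, gp_gi]
      rintro (((rfl | rfl) | rfl) | rfl) <;> exact this _

theorem Emb.arc_ext (h : Emb L I0 j) {S : Finset α} (hS : Arc L 4 S) :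
    ∃ o ∈ octads, (o ∩ I0).card = 2 ∧ S ⊆ pre j o := by
  obtain ⟨x, y, z, w, h1, h2, h3, h4, e⟩ := four_sorted (o := S.map j) (by rw [card_map, hS.1])
  have h5 := lin_zero (lin_zero (lin_zero (lin_zero arc_chk w h4) z h3) y h2) x h1
  set n := Nat.lor (Nat.lor (Nat.lor (Nat.shiftLeft 1 x) (Nat.shiftLeft 1 y)) (Nat.shiftLeft 1 z))
    (Nat.shiftLeft 1 w) with hn
  have hn' : n = Nat.shiftLeft 1 x ||| Nat.shiftLeft 1 y ||| Nat.shiftLeft 1 z ||| Nat.shiftLeft 1 w := rfl
  have e2 : bset n = S.map j := by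
    rw [hn', bset_or, bset_or, bset_or, bset_shl (by omega), bset_shl (by omega), bset_shl (by omega),
      bset_shl h4, e]
  have hlt : n < 2 ^ 24 := by
    have : ∀ a < 24, Nat.shiftLeft 1 a < 2 ^ 24 := by decide
    exact Nat.or_lt_two_pow (Nat.or_lt_two_pow (Nat.or_lt_two_pow (this _ (by omega)) (this _ (by omega)))
      (this _ (by omega))) (this _ h4)
  have hd : Disjoint (bset n) I0 := e2 ▸ map_disj h.rng S
  have hp : pre j (bset n) = S := by rw [e2]; ext; simp [mem_pre]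
  have hline : ∀ o ∈ octads, I0 ⊆ o → (o ∩ bset n).card ≤ 2 := fun o ho hI => by
    obtain ⟨l, rfl⟩ := exists_map h.rng hI
    rw [h.card_inter, hp, disjoint_iff_inter_eq_empty.mp hd]
    exact hS.2 l ((h.mem l).mpr ho)
  rw [arcE, frc_eq] at h5
  rcases andE_zero h5 with h5 | h5
  · rw [eqI_eq, if_pos (show Nat.land n 8388611 = 0 from (bset_disjoint_iff hlt).mp hd)] at h5; omega
  rcases andE_zero h5 with h5 | h5
  · obtain ⟨l, hl, h5⟩ := exL_zero h5
    obtain ⟨a1, a2⟩ := lines_ok l hl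
    have := hline _ a1 a2
    rw [← bset_and, card_bset] at this
    exact absurd (ltE_zero h5) (not_lt.mpr this)
  · obtain ⟨J, hJ, h5⟩ := exL_zero h5
    obtain ⟨a1, a2⟩ := JL J (List.mem_cons_of_mem _ hJ)
    rw [if_neg ((by decide : ∀ J ∈ [8388609, 8388610, 3], ¬ J = 0) J hJ)] at a2
    obtain ⟨o, ho, h6⟩ := (mw_six (n := n ||| J) (Nat.or_lt_two_pow hlt a1) (by
      rw [bset_or, card_union_of_disjoint (hd.mono_right a2.1), e2, card_map, hS.1, a2.2])).1.mpr (xor_eq_zero' h5)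
    rw [bset_or, union_subset_iff] at h6
    refine ⟨o, ho, ?_, fun a ha => mem_pre.mpr (h6.1 (e2 ▸ mem_map_of_mem j ha))⟩
    have b1 := card_le_card (subset_inter h6.2 a2.1)
    have b2 := card_le_card (inter_subset_right (s₁ := o) (s₂ := I0))
    rw [I0_card] at b2
    by_contra b3
    have := hline o ho (inter_eq_right.mp (eq_of_subset_of_card_le inter_subset_right (by rw [I0_card]; omega)))
    rw [inter_eq_right.mpr h6.1, e2, card_map, hS.1] at this; omega

theorem Emb.oct_uniq (h : Emb L I0 j) {o o' : Finset GolayPt} (ho : o ∈ octads) (ho' : o' ∈ octads)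
    (h1 : (o ∩ I0).card = 2) (h2 : (o' ∩ I0).card = 2) (h3 : 4 ≤ (pre j o ∩ pre j o').card) : o = o' := by
  refine oct_eq ho ho' ?_
  have e : pre j (o ∩ o') = pre j o ∩ pre j o' := by ext; simp [mem_pre]
  have h4 := card_union_add_card_inter (o ∩ I0) (o' ∩ I0)
  have h5 := card_le_card (union_subset (inter_subset_right (s₁ := o) (s₂ := I0)) (inter_subset_right (s₁ := o')))
  rw [← inter_inter_distrib_right] at h4
  rw [h.card_pre, e]; rw [I0_card] at h5; omega

theorem ovals (hα : Fintype.card α = 21) (hL : IsSteinerSystem 2 5 L) :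
    {S | Arc L 4 S}.ncard = 2520 ∧ {H | Arc L 6 H}.ncard = 168 ∧ ∀ S, Arc L 4 S → ∃! H, Arc L 6 H ∧ S ⊆ H := by
  classical
  obtain ⟨j, h⟩ := emb21 hα hL I0_card
  have h3 : ∀ S, Arc L 4 S → ∃! H, Arc L 6 H ∧ S ⊆ H := fun S hS => by
    obtain ⟨o, ho, h1, h2⟩ := h.arc_ext hS
    refine ⟨_, ⟨h.oval ho h1, h2⟩, fun H hH => ?_⟩
    obtain ⟨o', ho', h4, rfl⟩ := h.oct_of_oval hα hL hH.1
    rw [h.oct_uniq ho' ho h4 h1 (hS.1 ▸ card_le_card (subset_inter hH.2 h2))]
  have h2 : {H | Arc L 6 H}.ncard = 168 := by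
    have e : {H | Arc L 6 H} = pre j '' {o | o ∈ octads ∧ (I0 ∩ o).card = 2} := by
      ext H
      constructor
      · intro hH
        obtain ⟨o, ho, h4, rfl⟩ := h.oct_of_oval hα hL hH
        exact ⟨o, ⟨ho, inter_comm o I0 ▸ h4⟩, rfl⟩
      · rintro ⟨o, ho, rfl⟩; exact h.oval ho.1 (inter_comm o I0 ▸ ho.2)
    rw [e, Set.InjOn.ncard_image, ncard_blks, tri_card octads I0 _ (st_tri' steiner_octads card_golayPt lam24
      (nth [210, 120, 56, 21]) (by decide) (m := 3) (by decide) (by decide) I0_card), I0_card]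
    · rfl
    · intro o ho o' ho' e
      have a1 := inter_comm o I0 ▸ ho.2
      exact h.oct_uniq ho.1 ho'.1 a1 (inter_comm o' I0 ▸ ho'.2) (by
        rw [← e, inter_self, (h.oval ho.1 a1).1]; norm_num)
  refine ⟨?_, h2, h3⟩
  rw [Set.ncard_eq_toFinset_card'] at h2 ⊢
  have := card_mul_eq_card_mul (fun (H S : Finset α) => S ⊆ H) (s := {H | Arc L 6 H}.toFinset)
    (t := {S | Arc L 4 S}.toFinset) (m := 15) (n := 1) (fun H hH => ?_) fun S hS => ?_
  · omega
  · rw [Set.mem_toFinset] at hH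
    have : {S | Arc L 4 S}.toFinset.bipartiteAbove (fun (H S : Finset α) => S ⊆ H) H = powersetCard 4 H := by
      ext S
      simp only [mem_bipartiteAbove, Set.mem_toFinset, Set.mem_setOf_eq, mem_powersetCard]
      exact ⟨fun h => ⟨h.2, h.1.1⟩, fun h => ⟨⟨h.2, fun l hl =>
        (card_le_card (inter_subset_inter_left h.1)).trans (hH.2 l hl)⟩, h.1⟩⟩
    rw [this, card_powersetCard, hH.1]; rfl
  · obtain ⟨H, h4, h5⟩ := h3 S (by simpa using hS)
    rw [card_eq_one]
    refine ⟨H, ?_⟩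
    ext K
    simp only [mem_bipartiteBelow, Set.mem_toFinset, Set.mem_setOf_eq, mem_singleton]
    exact ⟨h5 K, fun e => e ▸ h4⟩

theorem oval_rigid (hα : Fintype.card α = 21) (hL : IsSteinerSystem 2 5 L) {H : Finset α} (hH : Arc L 6 H)
    {g : Equiv.Perm α} (hg : g ∈ setSystemAut L) (h : ∀ p ∈ H, g p = p) : g = 1 := by
  ext p
  by_cases hp : p ∈ H
  · exact h p hp
  have key : ∀ q ∈ H, ∃ l ∈ L, q ∈ l ∧ p ∈ l ∧ g p ∈ l := fun q hq => by
    obtain ⟨l, ⟨hl, h1⟩, -⟩ := hL.2 {p, q} (card_pair fun e => hp (e ▸ hq))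
    have h2 := even_oval hα hL hH hl
    have h3 := card_pos.mpr ⟨q, mem_inter.mpr ⟨h1 (by simp), hq⟩⟩
    have h4 : l = g • l := st_eq hL hl (aut_smul hg hl) ((show 2 ≤ (l ∩ H).card by omega).trans
      (card_le_card fun x hx => mem_inter.mpr ⟨(mem_inter.mp hx).1,
        h x (mem_inter.mp hx).2 ▸ smul_mem_smul_finset (mem_inter.mp hx).1⟩))
    exact ⟨l, hl, h1 (by simp), h1 (by simp), h4 ▸ smul_mem_smul_finset (h1 (by simp))⟩
  obtain ⟨q, hq⟩ : H.Nonempty := card_pos.mp (by rw [hH.1]; norm_num)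
  obtain ⟨l, hl, -, h1, h2⟩ := key q hq
  obtain ⟨r, hr⟩ : (H \ l).Nonempty := card_pos.mp (by
    have := card_sdiff_add_card_inter H l
    have := hH.2 l hl
    rw [inter_comm] at this; have := hH.1; omega)
  obtain ⟨m, hm, h3, h4, h5⟩ := key r (mem_sdiff.mp hr).1
  have := st_lt hL hl hm fun e => (mem_sdiff.mp hr).2 (e ▸ h3)
  exact card_le_one.mp (by omega) _ (mem_inter.mpr ⟨h2, h5⟩) _ (mem_inter.mpr ⟨h1, h4⟩)

theorem card_aut21 (hα : Fintype.card α = 21) (hL : IsSteinerSystem 2 5 L) :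
    120960 ≤ Nat.card (setSystemAut L) := by
  obtain ⟨j, h⟩ := emb21 hα hL I0_card
  rw [← card_stab_small (t := I0) (k := 120960) (by rw [I0_card]; norm_num) (by rw [I0_card]; rfl)]
  have hr : ∀ g : stabilizer M24 I0, ∃ σ : setSystemAut L, ∀ a, j (σ.1 a) = g.1 • j a := fun g => by
    obtain ⟨σ, h1, h2⟩ := h.restrict g.1 g.2; exact ⟨⟨σ, h1⟩, h2⟩
  choose r hr using hr
  refine Nat.card_le_card_of_injective r fun g g' e => ?_
  have h1 : ∀ x ∉ I0, (g'⁻¹ * g).1 • x = x := fun x hx => by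
    obtain ⟨a, rfl⟩ := (h.rng x).mpr hx
    rw [Subgroup.coe_mul, mul_smul, ← hr, e, hr, Subgroup.coe_inv, inv_smul_smul]
  rw [← mul_inv_cancel_left g' g, show g'⁻¹ * g = 1 from Subtype.ext (eq_of_smul_eq_smul fun x : GolayPt => ?_), mul_one]
  generalize g'⁻¹ * g = k at h1
  by_cases hx : x ∈ I0
  · obtain ⟨o, ho, h2⟩ := tri_ex octads I0 _ (st_tri' steiner_octads card_golayPt lam24
      (nth [210, 120, 56, 21]) (by decide) (m := 3) (by decide) (by decide) I0_card) (singleton_subset_iff.mpr hx)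
      (by rw [card_singleton]; decide)
    have h3 := card_sdiff_add_card_inter o I0
    rw [inter_comm, h2, card_singleton, ho.2] at h3
    have h4 : k.1 • o = o := oct_eq ((smul_mem_octads _).mpr ho) ho ((show 5 ≤ (o \ I0).card by omega).trans
      (card_le_card fun y hy => mem_inter.mpr ⟨h1 y (mem_sdiff.mp hy).2 ▸ smul_mem_smul_finset (mem_sdiff.mp hy).1,
        (mem_sdiff.mp hy).1⟩))
    have h5 : k.1 • x ∈ k.1 • (I0 ∩ o) := smul_mem_smul_finset (h2 ▸ mem_singleton_self x)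
    rw [smul_finset_inter, h4, k.2, h2] at h5
    exact mem_singleton.mp h5
  · exact h1 x hx

end Cfsg.Agent.Steiner
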