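import Cfsg.Agent.Lib.Steiner.Lin

/-! The punctured Golay code. -/

set_option autoImplicit false
set_option linter.unusedSectionVars false
set_option linter.unusedVariables false

namespace Cfsg.Agent.Steiner

open Finset Cfsg.Agent.Spor Cfsg.Agent.PC
open scoped symmDiff

def res (w : GolayPt → ZMod 2) : ZMod 23 → ZMod 2 := fun x => w (some x)

theorem supp_res (w : GolayPt → ZMod 2) :
    (support₂ (res w)).map Function.Embedding.some = (support₂ w).erase none := by
  ext (_ | x) <;> simp [mem_support₂, res]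

theorem norm_res (w : GolayPt → ZMod 2) : hammingNorm (res w) = ((support₂ w).erase none).card := by
  rw [← supp_res, card_map, hammingNorm_eq]

theorem res_min {w : GolayPt → ZMod 2} (hw : w ∈ golayCode) (h : hammingNorm (res w) < 7) : w = 0 := by
  have h1 := card_of_mem_gC (support_mem_gC.mpr hw)
  have h2 := pred_card_le_card_erase (s := support₂ w) (a := none)
  rw [norm_res] at h
  exact support_inj (by rw [support_zero, ← card_eq_zero]; omega)

theorem res_inj : Set.InjOn res golayCode := fun v hv w hw h => by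
  have : res (v - w) = 0 := by
    funext x; have := congrFun h x; simp only [res] at this; simp [res, this]
  exact sub_eq_zero.mp (res_min (golayCode.sub_mem hv hw) (by rw [this]; simp))

theorem res_set : {u : ZMod 23 → ZMod 2 | ∃ w ∈ golayCode, ∀ x : ZMod 23, u x = w (some x)} = res '' golayCode := by
  ext u
  exact ⟨fun ⟨w, hw, h⟩ => ⟨w, hw, (funext h).symm⟩, fun ⟨w, hw, h⟩ => ⟨w, hw, fun x => by rw [← h]; rfl⟩⟩

theorem res_count (O : ℕ → ℕ) (v : ℕ) (P : ℕ → Prop)
    (h : ∀ k, P (pop (cw k &&& 8388607)) ↔ O k = v) :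
    {u | u ∈ res '' golayCode ∧ P (hammingNorm u)}.ncard = cnt O v 4096 := by
  have e : {u | u ∈ res '' golayCode ∧ P (hammingNorm u)} =
      res '' {w | w ∈ golayCode ∧ P (hammingNorm (res w))} := by
    ext u
    exact ⟨fun ⟨⟨w, hw, h⟩, h'⟩ => ⟨w, ⟨hw, h ▸ h'⟩, h⟩, fun ⟨w, hw, h⟩ => ⟨⟨w, hw.1, h⟩, h ▸ hw.2⟩⟩
  rw [e, Set.InjOn.ncard_image (res_inj.mono fun w hw => hw.1),
    ← Set.ncard_image_of_injective _ (fun _ _ => support_inj : Function.Injective support₂)]
  refine ncard_cw ?_ O v fun k hk => ?_
  · rintro _ ⟨w, hw, rfl⟩; exact support_mem_gC.mpr hw.1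
  · have e2 : (bset (cw k)).erase none = bset (cw k &&& 8388607) := by
      rw [bset_and, show bset 8388607 = univ.erase none by decide +kernel]; ext; simp [and_comm]
    rw [← h, ← card_bset, ← e2, cwd, ← support_wd,
      Function.Injective.mem_set_image (fun _ _ => support_inj), Set.mem_setOf_eq, norm_res]
    exact and_iff_right (wd_cw hk)

end Cfsg.Agent.Steiner
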