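import Cfsg.Agent.Lib.Steiner.Aut
import Cfsg.Agent.Lib.Transfer.Sharp

/-! Uniqueness of the small Witt systems. -/

set_option autoImplicit false
set_option linter.unusedSectionVars false
set_option linter.unusedVariables false

namespace Cfsg.Agent.Steiner

open Finset Cfsg.Agent.Spor Cfsg.Agent.PC MulAction
open scoped Pointwise symmDiff

def M11L : List ℕ := [62, 91, 109, 151, 185, 206, 227, 244, 299, 309, 327, 348, 370, 397, 410, 422, 465, 488, 527, 563, 597, 614, 632, 668, 677, 682, 713, 722, 790, 793, 812, 842, 865, 899, 944, 964, 1053, 1063, 1110, 1130, 1137, 1163, 1196, 1202, 1221, 1240, 1294, 1299, 1336, 1353, 1380, 1428, 1441, 1474, 1562, 1577, 1588, 1603, 1612, 1670, 1681, 1760, 1797, 1826, 1872, 1928]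

def ch11 : List (ℕ × ℕ × List ℕ) := [(527, 15, [0xbdab49ca307b9ac5a88941cc518820, 0xbdab49ca307b9ac5a8a941cc418820, 0xbdab49ca307b9ac5a8c941ca418820, 0xbdab49ca307b9ac5a8e9418a418820, 0xbdab49ca307b9ac5a909398a418820, 0xbdab49ca307b9ac5a548398a418820]),
  (790, 774, [0xbdab49ca307b9ac5a9283988518820, 0xbdab49ca307b9ac5a9283948618820, 0xbdab49ca307b9ac5a9283148718820, 0xbdab49ca307b9ac59d2a3148818820]),
  (1294, 270, [0xbdab49ca307b9ac5952851cc418820, 0xbdab49ca307b9ac5992851ca418820, 0xbdab49ca307b9ac59d28518a418820]),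
  (62, 30, [0xbdab49ca307b9ac5a928394c418820, 0xbdab49ca307b9ac5a928314e418820]),
  (206, 142, []),
  (614, 582, [0xbdab49ca307b9ac595243994818820]),
  (327, 326, []),
  (1110, 1094, []),
  (151, 150, []),
  (422, 390, []),
  (1063, 1062, []),
  (1670, 1542, []),
  (1137, 1105, [0xbdab49ca307b9ac59125428e618820, 0xbdab49ca307b9ac599272910a18820]),
  (1336, 1080, []),
  (793, 792, []),
  (1577, 1065, []),
  (865, 833, []),
  (632, 624, []),
  (1928, 1800, []),
  (1681, 1665, []),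
  (944, 928, []),
  (1240, 1232, []),
  (488, 480, []),
  (465, 464, []),
  (1353, 1352, []),
  (185, 184, []),
  (1760, 1728, []),
  (1872, 1856, []),
  (1441, 1440, []),
  (1299, 275, [0xbdab49ca307b9ac5952431d4818820]),
  (1826, 1794, []),
  (299, 298, []),
  (309, 305, []),
  (1588, 1584, []),
  (1797, 1796, []),
  (1612, 1608, []),
  (91, 89, []),
  (348, 344, []),
  (1603, 1602, []),
  (1380, 1376, []),
  (842, 840, []),
  (109, 108, []),
  (397, 396, []),
  (677, 676, []),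
  (1196, 1188, []),
  (1202, 1200, []),
  (682, 680, []),
  (1163, 1162, []),
  (668, 664, []),
  (1474, 1472, []),
  (1221, 1220, []),
  (722, 720, []),
  (964, 960, []),
  (227, 226, []),
  (1562, 1560, []),
  (597, 596, []),
  (370, 368, []),
  (899, 898, []),
  (1428, 1424, []),
  (1053, 1052, []),
  (563, 562, []),
  (1130, 1128, []),
  (410, 408, []),
  (713, 712, []),
  (244, 240, []),
  (812, 808, [])]

structure S11 (C : Set (Finset GolayPt)) : Prop where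
  ex : ∀ s, s ⊆ bset 2047 → s.card = 4 → ∃ b ∈ C, s ⊆ b ∧ b ⊆ bset 2047 ∧ b.card = 5
  ne : ∀ a ∈ C, ∀ b ∈ C, (a ∩ b).card ≠ 4 ∧ (a ∩ b).card ≠ 0

def Gm (σ : Equiv.Perm GolayPt) : Prop := σ • bset 2047 = bset 2047 ∧ ∀ i < 4, σ (gp i) = gp i

theorem S11.comap {C : Set (Finset GolayPt)} (h : S11 C) {σ : Equiv.Perm GolayPt} (hσ : Gm σ) :
    S11 {a | σ • a ∈ C} where
  ex s hs h4 := by
    obtain ⟨b, hb, h1, h2, h3⟩ := h.ex (σ • s) (hσ.1 ▸ smul_finset_subset_smul_finset hs)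
      (by rw [card_smul_finset, h4])
    refine ⟨σ⁻¹ • b, by simpa using hb, ?_, ?_, by rw [card_smul_finset, h3]⟩
    · have := smul_finset_subset_smul_finset (a := σ⁻¹) h1
      rwa [inv_smul_smul] at this
    · have := smul_finset_subset_smul_finset (a := σ⁻¹) h2
      rwa [← hσ.1, inv_smul_smul] at this
  ne a ha b hb := by
    have := h.ne _ ha _ hb
    rwa [← smul_finset_inter, card_smul_finset] at this

def Ext11 (P : List ℕ) : Prop := ∀ C : Set (Finset GolayPt), S11 C → (∀ p ∈ P, bset p ∈ C) →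
  ∃ σ, Gm σ ∧ ∀ b ∈ M11L, σ • bset b ∈ C

/-- sum of `f` over a list -/
noncomputable def allL (f : ℕ → ℕ) (P : List ℕ) : ℕ :=
  List.rec (nat_lit 0) (fun p _ ih => Nat.add (f p) ih) P

theorem allL_zero {f : ℕ → ℕ} {P : List ℕ} (h : allL f P = 0) : ∀ p ∈ P, f p = 0 := by
  induction P with
  | nil => simp
  | cons p P ih =>
    obtain ⟨h1, h2⟩ := add_eq_zero' (show Nat.add (f p) (allL f P) = 0 from h)
    intro q hq
    rcases List.mem_cons.mp hq with rfl | hq
    exacts [h1, ih h2 q hq]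

noncomputable def memL (P : List ℕ) (n : ℕ) : ℕ := frc n fun n => exL (fun p => Nat.xor n p) P

theorem memL_zero {P : List ℕ} {n : ℕ} (h : memL P n = 0) : n ∈ P := by
  rw [memL, frc_eq] at h
  obtain ⟨p, hp, h⟩ := exL_zero h
  rw [xor_eq_zero' h]; exact hp

noncomputable def okP (P : List ℕ) (c : ℕ) : ℕ :=
  Nat.add (Nat.add (Nat.xor (img c (nat_lit 16777215)) (nat_lit 16777215))
    (Nat.xor (img c (nat_lit 2047)) (nat_lit 2047)))
    (Nat.add (lin (fun i => Nat.xor (pf c i) i) (nat_lit 0) (nat_lit 4)) (allL (fun p => memL P (img c p)) P))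

noncomputable def cand11 (P : List ℕ) (g : ℕ) (Q : List ℕ) (c : ℕ) : ℕ := frc c fun c =>
  andE (eqI (pop c) (nat_lit 5)) (andE (Nat.xor c g) (andE
    (exL (fun p => frc (pop (Nat.land c p)) fun w => Nat.mul w (Nat.xor w (nat_lit 4))) P)
    (exL (fun π => Nat.xor (img π g) c) Q)))

noncomputable def step11 (P : List ℕ) (g s : ℕ) (Q : List ℕ) : ℕ :=
  Nat.add (Nat.add (Nat.xor (pop s) (nat_lit 4)) (Nat.xor (Nat.land s (nat_lit 2047)) s))
    (Nat.add (allL (okP P) Q)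
      (lin (fun x => cand11 P g Q (Nat.lor s (Nat.shiftLeft (nat_lit 1) x))) (nat_lit 0) (nat_lit 11)))

theorem lt11 {i : ℕ} (hi : i < 24) (h : gp i ∈ bset 2047) : i < 11 := by
  rw [gp_mem_bset hi] at h
  revert i; decide

theorem ext11_step {P : List ℕ} {g s : ℕ} {Q : List ℕ} (h : step11 P g s Q = 0) (hE : Ext11 (g :: P)) :
    Ext11 P := by
  intro C hC hP
  obtain ⟨h1, h2⟩ := add_eq_zero' h
  obtain ⟨h4, hs⟩ := add_eq_zero' h1
  obtain ⟨hQ, h2⟩ := add_eq_zero' h2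
  have h4' : (bset s).card = 4 := by rw [card_bset]; exact xor_eq_zero' h4
  have hs' : s &&& 2047 = s := xor_eq_zero' hs
  obtain ⟨b, hb, hsb, hb2, h5⟩ := hC.ex (bset s) (by rw [← hs', bset_and]; exact inter_subset_right) h4'
  obtain ⟨y, hy⟩ := card_eq_one.mp (show (b \ bset s).card = 1 by rw [card_sdiff_of_subset hsb]; omega)
  obtain ⟨x, hx, rfl⟩ := exists_gp y
  have hx' : x < 11 := lt11 hx (hb2 (mem_sdiff.mp (hy ▸ mem_singleton_self _)).1)
  have h3 := lin_zero h2 x hx'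
  set c := Nat.lor s (Nat.shiftLeft 1 x) with hc
  have hco : bset c = b := by
    have : c = s ||| Nat.shiftLeft 1 x := rfl
    rw [this, bset_or, bset_shl hx, ← hy, union_sdiff_of_subset hsb]
  rw [cand11, frc_eq] at h3
  rcases andE_zero h3 with h3 | h3
  · rw [eqI_eq, ← card_bset, hco, h5] at h3; simp at h3
  rcases andE_zero h3 with h3 | h3
  · refine hE C hC fun p hp => ?_
    rcases List.mem_cons.mp hp with rfl | hp
    · rw [← xor_eq_zero' h3, hco]; exact hb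
    · exact hP p hp
  rcases andE_zero h3 with h3 | h3
  · obtain ⟨p, hp, h3⟩ := exL_zero h3
    rw [frc_eq] at h3
    have e : pop (Nat.land c p) = (b ∩ bset p).card := by rw [← card_bset, ← hco, ← bset_and]; rfl
    rw [e] at h3
    rcases mul_eq_zero' h3 with h3 | h3
    · exact absurd h3 (hC.ne _ hb _ (hP p hp)).2
    · exact absurd (xor_eq_zero' h3) (hC.ne _ hb _ (hP p hp)).1
  · obtain ⟨π, hπ, h3⟩ := exL_zero h3
    obtain ⟨h6, h7⟩ := add_eq_zero' (allL_zero hQ π hπ)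
    obtain ⟨h6, h8⟩ := add_eq_zero' h6
    obtain ⟨h7, h9⟩ := add_eq_zero' h7
    have hv : Valid π := xor_eq_zero' h6
    have hG : Gm (pm π) := ⟨by rw [hv.smul_bset, xor_eq_zero' h8], fun i hi => by
      rw [hv.pm_gp (by omega), xor_eq_zero' (lin_zero h7 i hi)]⟩
    obtain ⟨τ, hτ, h10⟩ := hE _ (hC.comap hG) fun p hp => by
      show pm π • bset p ∈ C
      rw [hv.smul_bset]
      rcases List.mem_cons.mp hp with rfl | hp
      · rw [xor_eq_zero' h3, hco]; exact hb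
      · exact hP _ (memL_zero (allL_zero h9 p hp))
    exact ⟨pm π * τ, ⟨by rw [mul_smul, hτ.1, hG.1], fun i hi => by
      rw [Equiv.Perm.mul_apply, hτ.2 i hi, hG.2 i hi]⟩, fun b hb => by rw [mul_smul]; exact h10 b hb⟩

noncomputable def chain11E (L : List (ℕ × ℕ × List ℕ)) : List ℕ → ℕ :=
  List.rec (motive := fun _ => List ℕ → ℕ) (fun P => allL (memL P) M11L)
    (fun x _ ih P => Nat.add (step11 P x.1 x.2.1 x.2.2) (ih (x.1 :: P))) L

theorem ext11_chain (L : List (ℕ × ℕ × List ℕ)) : ∀ P, chain11E L P = 0 → Ext11 P := by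
  induction L with
  | nil =>
    intro P h C hC hP
    have h' : allL (memL P) M11L = 0 := h
    exact ⟨1, ⟨one_smul _ _, fun _ _ => rfl⟩, fun b hb => by
      rw [one_smul]; exact hP _ (memL_zero (allL_zero h' b hb))⟩
  | cons x L ih =>
    intro P h
    obtain ⟨h1, h2⟩ := add_eq_zero' (show Nat.add (step11 P x.1 x.2.1 x.2.2) (chain11E L (x.1 :: P)) = 0 from h)
    exact ext11_step h1 (ih _ h2)

theorem ext11_nil : Ext11 [] := ext11_chain ch11 [] (beq0 (by decide +kernel))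

theorem cover11 : ∀ n < 2048, andE (eqI (pop n) (nat_lit 4)) (exL (fun m => Nat.xor (Nat.land n m) n) M11L) = 0 :=
  upTo_beq (by decide +kernel)

variable {α : Type*} [Fintype α] [DecidableEq α] {B : Set (Finset α)}

structure Emb11 (B : Set (Finset α)) (j : α ↪ GolayPt) : Prop where
  rng : ∀ x, x ∈ Set.range j ↔ x ∉ (bset 2047)ᶜ
  mem : ∀ b, b ∈ B ↔ ∃ m ∈ M11L, bset m = b.map j

theorem gp_inj4 : Function.Injective fun i : Fin 4 => gp i := by decide

theorem exists_emb11 (hα : Fintype.card α = 11) (hB : IsSteinerSystem 4 5 B) (x : Fin 4 ↪ α) :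
    ∃ j, Emb11 B j ∧ ∀ i, j (x i) = gp i := by
  have h11 : (bset 2047).card = 11 := by rw [card_bset]; decide +kernel
  obtain ⟨j0, hj0⟩ := exists_emb_range (α := α) (bset 2047)ᶜ (by rw [card_compl, card_golayPt]; omega)
  have hz : ∀ i : Fin 4, ∃ a, j0 a = gp i := fun i => (hj0 _).mpr (by
    rw [mem_compl, not_not, gp_mem_bset (by omega)]; revert i; decide)
  choose z hz using hz
  have hzi : Function.Injective z := fun a b h => gp_inj4 (by simp only [← hz, h])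
  obtain ⟨ρ, hρ⟩ := Equiv.Perm.exists_extending_pair (f := x) (g := z) x.injective hzi
  let j := ρ.toEmbedding.trans j0
  have hj : ∀ y, y ∈ Set.range j ↔ y ∉ (bset 2047)ᶜ := fun y => by
    rw [← hj0]
    exact ⟨fun ⟨a, ha⟩ => ⟨_, ha⟩, fun ⟨a, ha⟩ => ⟨ρ.symm a, by simpa [j] using ha⟩⟩
  have hjx : ∀ i, j (x i) = gp i := fun i => by simp only [j]; simp [hρ, hz]
  have hsub : ∀ j : α ↪ GolayPt, (∀ y, y ∈ Set.range j ↔ y ∉ (bset 2047)ᶜ) → ∀ b : Finset α,
      b.map j ⊆ bset 2047 := fun j hj b y hy => by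
    obtain ⟨a, -, rfl⟩ := mem_map.mp hy
    simpa using (hj (j a)).mp ⟨a, rfl⟩
  have hex : ∀ s ⊆ bset 2047, ∃ u : Finset α, u.map j = s := fun s hs =>
    ⟨univ.filter (j · ∈ s), by
      ext y
      simp only [mem_map, mem_filter, mem_univ, true_and]
      refine ⟨?_, fun h => ?_⟩
      · rintro ⟨a, h, rfl⟩; exact h
      · obtain ⟨a, rfl⟩ := (hj y).mpr (by simpa using hs h); exact ⟨a, h, rfl⟩⟩
  have hC : S11 {c | ∃ b ∈ B, b.map j = c} := by
    refine ⟨fun s hs h4 => ?_, ?_⟩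
    · obtain ⟨u, rfl⟩ := hex s hs
      obtain ⟨b, ⟨hb, hub⟩, -⟩ := hB.2 u (by rw [← h4, card_map])
      exact ⟨_, ⟨b, hb, rfl⟩, map_subset_map.mpr hub, hsub j hj b, by rw [card_map, hB.1 b hb]⟩
    · rintro _ ⟨a, ha, rfl⟩ _ ⟨b, hb, rfl⟩
      rw [← map_inter, card_map]
      refine ⟨fun h => ?_, inter11 hα hB ha hb⟩
      have := st_eq hB ha hb h.ge
      subst this
      rw [inter_self, hB.1 a ha] at h; omega
  obtain ⟨σ, hσ, h1⟩ := ext11_nil _ hC (by simp)
  let j' := j.trans σ.symm.toEmbedding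
  have hj' : ∀ y, y ∈ Set.range j' ↔ y ∉ (bset 2047)ᶜ := fun y => by
    have h2 : σ y ∈ bset 2047 ↔ y ∈ bset 2047 := by
      conv_lhs => rw [← hσ.1]
      exact Finset.smul_mem_smul_finset_iff σ
    rw [mem_compl, not_not, ← h2, ← not_not (a := σ y ∈ _), ← mem_compl, ← hj]
    exact ⟨fun ⟨a, ha⟩ => ⟨a, by rw [← ha]; simp [j']⟩, fun ⟨a, ha⟩ => ⟨a, by simp [j', ha]⟩⟩
  have hm : ∀ b : Finset α, σ • b.map j' = b.map j := fun b => by
    rw [smul_eq_image, map_eq_image, map_eq_image, image_image]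
    exact image_congr fun a _ => by simp [j']
  have h2 : ∀ m ∈ M11L, ∃ b ∈ B, b.map j' = bset m := fun m hm' => by
    obtain ⟨b, hb, h⟩ := h1 m hm'
    exact ⟨b, hb, MulAction.injective σ (by simp only [hm, h])⟩
  refine ⟨j', ⟨hj', fun b => ⟨fun hb => ?_, ?_⟩⟩, fun i => ?_⟩
  · obtain ⟨s, hs, h4⟩ := exists_subset_card_eq (s := b) (n := 4) (by rw [hB.1 b hb]; norm_num)
    obtain ⟨n, hn, e⟩ := exists_bset (s.map j')
    have h3 : n &&& 2047 = n := (bset_subset_iff hn).mp (e ▸ hsub j' hj' s)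
    have h5 : n < 2048 := h3 ▸ lt_of_le_of_lt Nat.and_le_right (by norm_num)
    rcases andE_zero (cover11 n h5) with h6 | h6
    · rw [eqI_eq, ← card_bset, e, card_map, h4] at h6; simp at h6
    · obtain ⟨m, hm', h6⟩ := exL_zero h6
      obtain ⟨c, hc, h7⟩ := h2 m hm'
      have h8 : s ⊆ c := map_subset_map.mp (by
        rw [← e, h7, bset_subset_iff hn]; exact xor_eq_zero' h6)
      rw [st_eq hB hb hc (h4 ▸ card_le_card (subset_inter hs h8))]
      exact ⟨m, hm', h7.symm⟩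
  · rintro ⟨m, hm', h⟩
    obtain ⟨c, hc, h7⟩ := h2 m hm'
    rw [← map_injective j' (h7.trans h)]; exact hc
  · show σ.symm (j (x i)) = gp i
    rw [hjx, Equiv.symm_apply_eq, hσ.2 i i.2]

theorem iso11 {β : Type*} [Fintype β] [DecidableEq β] {B' : Set (Finset β)} (hα : Fintype.card α = 11)
    (hβ : Fintype.card β = 11) (hB : IsSteinerSystem 4 5 B) (hB' : IsSteinerSystem 4 5 B') (x : Fin 4 ↪ α)
    (y : Fin 4 ↪ β) : ∃ e : α ≃ β, (∀ i, e (x i) = y i) ∧ ∀ b, b ∈ B ↔ b.image e ∈ B' := by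
  obtain ⟨j, h, hx⟩ := exists_emb11 hα hB x
  obtain ⟨j', h', hy⟩ := exists_emb11 hβ hB' y
  obtain ⟨e, he⟩ := exists_equiv_range j j' (by ext x; rw [h.rng, h'.rng])
  refine ⟨e, fun i => j'.injective (by rw [he, hx, hy]), fun b => ?_⟩
  rw [h.mem, h'.mem, map_eq_image, map_eq_image, image_image]
  have : (j' : β → GolayPt) ∘ e = j := funext he
  rw [this]

def f5 (a b c d e : ℕ) : ℕ := Nat.shiftLeft 1 a ||| (Nat.shiftLeft 1 b ||| (Nat.shiftLeft 1 c |||
  (Nat.shiftLeft 1 d ||| Nat.shiftLeft 1 e)))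

theorem bset_f5 {a b c d e : ℕ} (ha : a < 11) (hb : b < 11) (hc : c < 11) (hd : d < 11) (he : e < 11) :
    bset (f5 a b c d e) = {gp a, gp b, gp c, gp d, gp e} := by
  simp only [f5, bset_or]
  rw [bset_shl (by omega), bset_shl (by omega), bset_shl (by omega), bset_shl (by omega), bset_shl (by omega)]
  ext; simp only [mem_union, mem_singleton, mem_insert]

theorem f5_lt {a b c d e : ℕ} (ha : a < 11) (hb : b < 11) (hc : c < 11) (hd : d < 11) (he : e < 11) :
    f5 a b c d e < 2 ^ 24 := by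
  have : ∀ a < 11, Nat.shiftLeft 1 a < 2 ^ 24 := by decide
  exact Nat.or_lt_two_pow (this a ha) (Nat.or_lt_two_pow (this b hb) (Nat.or_lt_two_pow (this c hc)
    (Nat.or_lt_two_pow (this d hd) (this e he))))

noncomputable def inM (n : ℕ) : ℕ := exL (fun m => Nat.xor n m) M11L ^^^ 1

theorem exL_mem {f : ℕ → ℕ} {P : List ℕ} {p : ℕ} (hp : p ∈ P) (h : f p = 0) : exL f P = 0 := by
  induction P with
  | nil => simp at hp
  | cons q P ih =>
    show andE (f q) (exL f P) = 0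
    rcases List.mem_cons.mp hp with rfl | hp
    · rw [h]; rfl
    · rw [ih hp]; cases f q <;> rfl

theorem andE_inM {n b : ℕ} (hn : n ∈ M11L) (h : andE (inM n) b = 0) : b = 0 := by
  rw [inM, exL_mem (f := fun m => Nat.xor n m) hn (Nat.xor_self n)] at h; exact h

theorem rigid11_chk : lin (fun y9 => andE (inM (f5 0 1 2 3 y9)) (lin (fun y4 => lin (fun y8 =>
    andE (inM (f5 1 2 y4 y8 y9)) (lin (fun y10 => andE (inM (f5 1 2 3 y8 y10)) (lin (fun y5 =>
    andE (inM (f5 1 2 3 y4 y5)) (lin (fun y6 => lin (fun y7 => andE (inM (f5 1 2 3 y6 y7))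
    (andE (inM (f5 0 y5 y6 y8 y9)) (andE (inM (f5 0 1 y4 y8 y10)) (Nat.add (Nat.add (Nat.add (Nat.xor y4 4)
    (Nat.xor y5 5)) (Nat.add (Nat.xor y6 6) (Nat.xor y7 7))) (Nat.add (Nat.add (Nat.xor y8 8) (Nat.xor y9 9))
    (Nat.xor y10 10)))))) 0 11) 0 11)) 0 11)) 0 11)) 0 11) 0 11)) 0 11 = 0 :=
  beq0 (by decide +kernel)

theorem rigid11 : ∀ y9 < 11, f5 0 1 2 3 y9 ∈ M11L → ∀ y4 < 11, ∀ y8 < 11, f5 1 2 y4 y8 y9 ∈ M11L →
    ∀ y10 < 11, f5 1 2 3 y8 y10 ∈ M11L → ∀ y5 < 11, f5 1 2 3 y4 y5 ∈ M11L → ∀ y6 < 11, ∀ y7 < 11,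
    f5 1 2 3 y6 y7 ∈ M11L → f5 0 y5 y6 y8 y9 ∈ M11L → f5 0 1 y4 y8 y10 ∈ M11L →
    y4 = 4 ∧ y5 = 5 ∧ y6 = 6 ∧ y7 = 7 ∧ y8 = 8 ∧ y9 = 9 ∧ y10 = 10 := by
  intro y9 h9 k1 y4 h4 y8 h8 k2 y10 h10 k3 y5 h5 k4 y6 h6 y7 h7 k5 k6 k7
  have h := andE_inM k7 (andE_inM k6 (andE_inM k5 (lin_zero (lin_zero (andE_inM k4 (lin_zero (andE_inM k3
    (lin_zero (andE_inM k2 (lin_zero (lin_zero (andE_inM k1 (lin_zero rigid11_chk y9 h9)) y4 h4) y8 h8))
    y10 h10)) y5 h5)) y6 h6) y7 h7)))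
  obtain ⟨a, b⟩ := add_eq_zero' h
  obtain ⟨a, c⟩ := add_eq_zero' a
  obtain ⟨b, d⟩ := add_eq_zero' b
  exact ⟨xor_eq_zero' (add_eq_zero' a).1, xor_eq_zero' (add_eq_zero' a).2, xor_eq_zero' (add_eq_zero' c).1,
    xor_eq_zero' (add_eq_zero' c).2, xor_eq_zero' (add_eq_zero' b).1, xor_eq_zero' (add_eq_zero' b).2,
    xor_eq_zero' d⟩

theorem sharp11 (hα : Fintype.card α = 11) (hB : IsSteinerSystem 4 5 B) (x : Fin 4 ↪ α) {σ : Equiv.Perm α}
    (hσ : σ ∈ setSystemAut B) (hx : ∀ i, σ (x i) = x i) : σ = 1 := by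
  obtain ⟨j, h, hj⟩ := exists_emb11 hα hB x
  have hz : ∀ i : ℕ, ∃ a, i < 11 → j a = gp i := fun i => by
    by_cases hi : i < 11
    · obtain ⟨a, ha⟩ := (h.rng (gp i)).mpr (by
        rw [mem_compl, not_not, gp_mem_bset (by omega)]; revert i; decide)
      exact ⟨a, fun _ => ha⟩
    · exact ⟨x 0, fun h => absurd h hi⟩
  choose z hz using hz
  let y : ℕ → ℕ := fun i => gi (j (σ (z i)))
  have hy : ∀ i, gp (y i) = j (σ (z i)) := fun i => gp_gi _
  have hy' : ∀ i, y i < 11 := fun i => lt11 (gi_lt _) (by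
    rw [hy]; simpa using (h.rng _).mp ⟨_, rfl⟩)
  have key : ∀ a b c d e, a < 11 → b < 11 → c < 11 → d < 11 → e < 11 → f5 a b c d e ∈ M11L →
      f5 (y a) (y b) (y c) (y d) (y e) ∈ M11L := by
    intro a b c d e ha hb hc hd he hm
    have h1 : ({z a, z b, z c, z d, z e} : Finset α) ∈ B := (h.mem _).mpr ⟨_, hm, by
      simp only [bset_f5 ha hb hc hd he, map_insert, map_singleton, hz _ ha, hz _ hb, hz _ hc, hz _ hd, hz _ he]⟩
    obtain ⟨m, hm', h2⟩ := (h.mem _).mp (aut_smul hσ h1)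
    have h3 : m < 2 ^ 24 := (by decide : ∀ m ∈ M11L, m < 2 ^ 24) m hm'
    rw [bset_inj (f5_lt (hy' _) (hy' _) (hy' _) (hy' _) (hy' _)) h3 ?_]
    · exact hm'
    · simp only [h2, bset_f5 (hy' _) (hy' _) (hy' _) (hy' _) (hy' _), hy, smul_finset_insert,
        smul_finset_singleton, map_insert, map_singleton, Equiv.Perm.smul_def]
  have h4 : ∀ i < 4, y i = i := fun i hi => by
    have : z i = x ⟨i, hi⟩ := j.injective (by rw [hz i (by omega), hj])
    simp only [y]; rw [this, hx, hj, gi_gp (by simp; omega)]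
  have k1 := key 0 1 2 3 9 (by norm_num) (by norm_num) (by norm_num) (by norm_num) (by norm_num) (by decide)
  have k2 := key 1 2 4 8 9 (by norm_num) (by norm_num) (by norm_num) (by norm_num) (by norm_num) (by decide)
  have k3 := key 1 2 3 8 10 (by norm_num) (by norm_num) (by norm_num) (by norm_num) (by norm_num) (by decide)
  have k4 := key 1 2 3 4 5 (by norm_num) (by norm_num) (by norm_num) (by norm_num) (by norm_num) (by decide)
  have k5 := key 1 2 3 6 7 (by norm_num) (by norm_num) (by norm_num) (by norm_num) (by norm_num) (by decide)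
  have k6 := key 0 5 6 8 9 (by norm_num) (by norm_num) (by norm_num) (by norm_num) (by norm_num) (by decide)
  have k7 := key 0 1 4 8 10 (by norm_num) (by norm_num) (by norm_num) (by norm_num) (by norm_num) (by decide)
  have y0 := h4 0 (by norm_num)
  have y1 := h4 1 (by norm_num)
  have y2 := h4 2 (by norm_num)
  have y3 := h4 3 (by norm_num)
  rw [y0] at k1 k6 k7
  rw [y1] at k1 k2 k3 k4 k5 k7
  rw [y2] at k1 k2 k3 k4 k5
  rw [y3] at k1 k3 k4 k5
  obtain ⟨y4, y5, y6, y7, y8, y9, y10⟩ := rigid11 _ (hy' _) k1 _ (hy' _) _ (hy' _) k2 _ (hy' _) k3 _ (hy' _) k4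
    _ (hy' _) _ (hy' _) k5 k6 k7
  have h5 : ∀ i < 11, y i = i := fun i hi => by interval_cases i <;> assumption
  ext a
  have h6 : gi (j a) < 11 := lt11 (gi_lt _) (by rw [gp_gi]; simpa using (h.rng _).mp ⟨_, rfl⟩)
  have h7 : z (gi (j a)) = a := j.injective (by rw [hz _ h6, gp_gi])
  have h8 := hy (gi (j a))
  rw [h5 _ h6, h7, gp_gi] at h8
  exact (j.injective h8).symm

theorem sht_of {k : ℕ} (hk : k ≤ Fintype.card α)
    (h1 : ∀ x y : Fin k ↪ α, ∃ e : α ≃ α, (∀ i, e (x i) = y i) ∧ ∀ b, b ∈ B ↔ b.image e ∈ B)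
    (h2 : ∀ x : Fin k ↪ α, ∀ σ ∈ setSystemAut B, (∀ i, σ (x i) = x i) → σ = 1) :
    Transfer.ShT (setSystemAut B) α k where
  trans := by
    rw [isMultiplyPretransitive_iff]
    intro x y
    obtain ⟨e, h3, h4⟩ := h1 x y
    exact ⟨⟨e, mem_aut_of fun b hb => (h4 b).mp hb⟩, Function.Embedding.ext h3⟩
  sharp x := by
    rw [eq_bot_iff]
    intro σ hσ
    exact Subtype.ext (h2 x σ σ.2 fun i => congrArg (fun f : Fin k ↪ α => f i) hσ)
  le := by rwa [Nat.card_eq_fintype_card]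

theorem sht11 (hα : Fintype.card α = 11) (hB : IsSteinerSystem 4 5 B) : Transfer.ShT (setSystemAut B) α 4 :=
  sht_of (by omega) (iso11 hα hα hB hB) fun x σ hσ hx => sharp11 hα hB x hσ hx

theorem card_ne' (p : α) : Fintype.card {a : α // a ≠ p} = Fintype.card α - 1 := by
  simp [Fintype.card_subtype_compl]

/-- the first four entries, in the complement of the fifth -/
def cut5 (x : Fin 5 ↪ α) : Fin 4 ↪ {a : α // a ≠ x 4} :=
  ⟨fun i => ⟨x i.castSucc, fun h => (Fin.castSucc_lt_last i).ne (x.injective h)⟩,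
    fun a b h => Fin.castSucc_injective _ (x.injective (congrArg Subtype.val h))⟩

theorem eqs {γ : Type*} [DecidableEq γ] {p : γ} {b c : Finset γ} (hb : p ∈ b) (hc : p ∈ c)
    (h : b.subtype (· ≠ p) = c.subtype (· ≠ p)) : b = c := by
  ext a
  by_cases ha : a = p
  · simp [ha, hb, hc]
  · have := congrArg (fun s => (⟨a, ha⟩ : {a // a ≠ p}) ∈ s) h
    simpa using this

theorem iso12 {β : Type*} [Fintype β] [DecidableEq β] {B' : Set (Finset β)} (hα : Fintype.card α = 12)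
    (hβ : Fintype.card β = 12) (hB : IsSteinerSystem 5 6 B) (hB' : IsSteinerSystem 5 6 B') (x : Fin 5 ↪ α)
    (y : Fin 5 ↪ β) : ∃ e : α ≃ β, (∀ i, e (x i) = y i) ∧ ∀ b, b ∈ B ↔ b.image e ∈ B' := by
  obtain ⟨e, h1, h2⟩ := iso11 (by rw [card_ne', hα]) (by rw [card_ne', hβ]) (derived hB (x 4)) (derived hB' (y 4))
    (cut5 x) (cut5 y)
  let E : α ≃ β := (Equiv.optionSubtypeNe (x 4)).symm.trans (e.optionCongr.trans (Equiv.optionSubtypeNe (y 4)))
  have E4 : E (x 4) = y 4 := by simp [E]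
  have E' : ∀ a : {a : α // a ≠ x 4}, E a = e a := fun a => by
    simp [E, Equiv.optionSubtypeNe_symm_of_ne a.2]
  have hs : ∀ b : Finset α, (b.subtype (· ≠ x 4)).image e = (b.image E).subtype (· ≠ y 4) := fun b => by
    ext c
    obtain ⟨a, rfl⟩ := e.surjective c
    rw [mem_subtype, ← E', E.injective.mem_finset_image, e.injective.mem_finset_image, mem_subtype]
  have h3 : ∀ b : Finset α, x 4 ∈ b → (b ∈ B ↔ b.image E ∈ B') := fun b hb => by
    have hb' : y 4 ∈ b.image E := E4 ▸ mem_image_of_mem _ hb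
    have := h2 (b.subtype (· ≠ x 4))
    rw [hs] at this
    constructor
    · intro h
      obtain ⟨c, hc, h4, h5⟩ := this.mp ⟨b, h, hb, rfl⟩
      rw [eqs hb' h4 h5]; exact hc
    · intro h
      obtain ⟨c, hc, h4, h5⟩ := this.mpr ⟨_, h, hb', rfl⟩
      rw [eqs hb h4 h5]; exact hc
  refine ⟨E, fun i => ?_, fun b => ?_⟩
  · induction i using Fin.lastCases with
    | last => exact E4
    | cast i => exact (E' (cut5 x i)).trans (congrArg Subtype.val (h1 i))
  · by_cases hb : x 4 ∈ b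
    · exact h3 b hb
    · have hc : bᶜ.image E = (b.image E)ᶜ := by
        ext c
        obtain ⟨a, rfl⟩ := E.surjective c
        rw [mem_compl, E.injective.mem_finset_image, E.injective.mem_finset_image, mem_compl]
      have := h3 bᶜ (mem_compl.mpr hb)
      rw [hc] at this
      exact ⟨fun h => compl_compl (b.image E) ▸ compl12 hβ hB' (this.mp (compl12 hα hB h)),
        fun h => compl_compl b ▸ compl12 hα hB (this.mpr (compl12 hβ hB' h))⟩

theorem sharp12 (hα : Fintype.card α = 12) (hB : IsSteinerSystem 5 6 B) (x : Fin 5 ↪ α) {σ : Equiv.Perm α}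
    (hσ : σ ∈ setSystemAut B) (hx : ∀ i, σ (x i) = x i) : σ = 1 := by
  have h0 : ∀ a, σ a ≠ x 4 ↔ a ≠ x 4 := fun a => by
    conv_lhs => rw [← hx 4]
    exact σ.injective.ne_iff
  have := sharp11 (by rw [card_ne', hα]) (derived hB (x 4)) (cut5 x) (σ := σ.subtypePerm h0)
    (mem_aut_of ?_) fun i => Subtype.ext (hx _)
  · ext a
    by_cases ha : a = x 4
    · rw [ha, hx]; rfl
    · exact congrArg (fun f : Equiv.Perm _ => (f ⟨a, ha⟩).1) this
  · rintro _ ⟨b, hb, h1, rfl⟩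
    refine ⟨σ • b, aut_smul hσ hb, hx 4 ▸ smul_mem_smul_finset h1, ?_⟩
    ext c
    obtain ⟨a, rfl⟩ := (σ.subtypePerm h0).surjective c
    rw [mem_subtype]
    exact (Finset.smul_mem_smul_finset_iff (σ.subtypePerm h0)).trans
      (mem_subtype.trans (Finset.smul_mem_smul_finset_iff σ).symm)

theorem sht12 (hα : Fintype.card α = 12) (hB : IsSteinerSystem 5 6 B) : Transfer.ShT (setSystemAut B) α 5 :=
  sht_of (by omega) (iso12 hα hα hB hB) fun x σ hσ hx => sharp12 hα hB x hσ hx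

end Cfsg.Agent.Steiner
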