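import Cfsg.Agent.Lib.Steiner.Mono
import Cfsg.Agent.Lib.Steiner.HS2
import Cfsg.Agent.Lib.Steiner.S11

/-! The ternary Golay code. -/

set_option autoImplicit false
set_option linter.unusedSectionVars false
set_option linter.unusedVariables false
set_option maxRecDepth 100000

namespace Cfsg.Agent.Steiner

open Finset Equiv
open scoped Pointwise

abbrev Z6 := ZMod 3 × ZMod 3 × ZMod 3 × ZMod 3 × ZMod 3 × ZMod 3

def ixA (p : ArrayPt) : ℕ := 3 * p.1.val + p.2.val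
def ptA (n : ℕ) : ArrayPt := (Fin.ofNat 4 (n / 3), (n : ZMod 3))

def gT (k : ℕ) (p : ArrayPt) : ZMod 3 := (([[1, 0, 0, 0, 0, 1, 0, 0, 1, 1, 1, 2], [0, 1, 0, 0, 0, 1, 0, 2, 2, 2, 0, 2],
  [0, 0, 1, 0, 0, 1, 0, 1, 0, 2, 1, 1], [0, 0, 0, 1, 0, 2, 0, 2, 1, 2, 1, 0], [0, 0, 0, 0, 1, 2, 0, 1, 2, 0, 1, 2],
  [0, 0, 0, 0, 0, 0, 1, 1, 1, 2, 2, 2]] : List (List (ZMod 3))).getD k []).getD (ixA p) 0

def enc (a : Z6) (p : ArrayPt) : ZMod 3 := a.1 * gT 0 p + a.2.1 * gT 1 p + a.2.2.1 * gT 2 p + a.2.2.2.1 * gT 3 p +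
  a.2.2.2.2.1 * gT 4 p + a.2.2.2.2.2 * gT 5 p

def dec (x : ArrayPt → ZMod 3) : Z6 := (x (0, 0), x (0, 1), x (0, 2), x (1, 0), x (1, 1), x (2, 0))

theorem mem_tet {t : Fin 4 → ZMod 3} : t ∈ tetracode ↔ ∃ a b : ZMod 3, a • ![0, 1, 1, 1] + b • ![1, 0, 1, 2] = t :=
  Submodule.mem_span_pair

theorem gT_mem : ∀ k < 6, gT k ∈ ternaryGolayCode := by
  have : ∀ k < 6, ∃ s : ZMod 3, (∀ i : Fin 4, ∑ r : ZMod 3, gT k (i, r) = -s) ∧ ∀ a b : ZMod 3,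
    ∑ i : Fin 4, gT k (i, (a • ![0, 1, 1, 1] + b • ![1, 0, 1, 2] : Fin 4 → ZMod 3) i) = s := by decide +kernel
  intro k hk
  obtain ⟨s, h1, h2⟩ := this k hk
  refine ⟨s, h1, fun t ht => ?_⟩
  obtain ⟨a, b, rfl⟩ := mem_tet.mp ht
  exact h2 a b

theorem comb_mem {C : Submodule (ZMod 3) (ArrayPt → ZMod 3)} (c : ArrayPt → ZMod 3) (f : ArrayPt → ArrayPt)
    (h : ∀ k < 6, (fun p => c p * gT k (f p)) ∈ C) (a : Z6) : (fun p => c p * enc a (f p)) ∈ C := by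
  have : (fun p => c p * enc a (f p)) = a.1 • (fun p => c p * gT 0 (f p)) + a.2.1 • (fun p => c p * gT 1 (f p)) +
      a.2.2.1 • (fun p => c p * gT 2 (f p)) + a.2.2.2.1 • (fun p => c p * gT 3 (f p)) +
      a.2.2.2.2.1 • (fun p => c p * gT 4 (f p)) + a.2.2.2.2.2 • (fun p => c p * gT 5 (f p)) := by
    funext p; simp only [enc, Pi.add_apply, Pi.smul_apply, smul_eq_mul]; ring
  rw [this]
  refine add_mem (add_mem (add_mem (add_mem (add_mem ?_ ?_) ?_) ?_) ?_) ?_ <;>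
    exact C.smul_mem _ (h _ (by norm_num))

theorem enc_mem (a : Z6) : enc a ∈ ternaryGolayCode := by
  simpa using comb_mem (C := ternaryGolayCode) (fun _ => 1) id (by simpa using gT_mem) a

theorem dec_enc : ∀ a : Z6, dec (enc a) = a := by decide +kernel

theorem enc_inj : Function.Injective enc := Function.LeftInverse.injective dec_enc

theorem sum3 (f : ZMod 3 → ZMod 3) : ∑ r, f r = f 0 + f 1 + f 2 := Fin.sum_univ_three f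

theorem enc_dec {x : ArrayPt → ZMod 3} (hx : x ∈ ternaryGolayCode) : enc (dec x) = x := by
  obtain ⟨s, h1, h2⟩ := hx
  have h3 : (3 : ZMod 3) = 0 := rfl
  have hc0 := h1 0
  have hc1 := h1 1
  have hc2 := h1 2
  rw [sum3] at hc0 hc1 hc2
  have ht00 : x (0, 0) + x (1, 0) + x (2, 0) + x (3, 0) = s := by
    rw [← h2 ![0, 0, 0, 0] (mem_tet.mpr ⟨0, 0, by decide⟩), Fin.sum_univ_four]; rfl
  have ht01 : x (0, 1) + x (1, 0) + x (2, 1) + x (3, 2) = s := by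
    rw [← h2 ![1, 0, 1, 2] (mem_tet.mpr ⟨0, 1, by decide⟩), Fin.sum_univ_four]; rfl
  have ht02 : x (0, 2) + x (1, 0) + x (2, 2) + x (3, 1) = s := by
    rw [← h2 ![2, 0, 2, 1] (mem_tet.mpr ⟨0, 2, by decide⟩), Fin.sum_univ_four]; rfl
  have ht10 : x (0, 0) + x (1, 1) + x (2, 1) + x (3, 1) = s := by
    rw [← h2 ![0, 1, 1, 1] (mem_tet.mpr ⟨1, 0, by decide⟩), Fin.sum_univ_four]; rfl
  have key : ∀ p : ArrayPt, x p = enc (dec x) p := by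
    have hp : ∀ p : ArrayPt, p = (0, 0) ∨ p = (0, 1) ∨ p = (0, 2) ∨ p = (1, 0) ∨ p = (1, 1) ∨ p = (1, 2) ∨
      p = (2, 0) ∨ p = (2, 1) ∨ p = (2, 2) ∨ p = (3, 0) ∨ p = (3, 1) ∨ p = (3, 2) := by decide
    intro p
    rcases hp p with rfl | rfl | rfl | rfl | rfl | rfl | rfl | rfl | rfl | rfl | rfl | rfl
    · show _ = x (0, 0) * 1 + x (0, 1) * 0 + x (0, 2) * 0 + x (1, 0) * 0 + x (1, 1) * 0 + x (2, 0) * 0
      ring
    · show _ = x (0, 0) * 0 + x (0, 1) * 1 + x (0, 2) * 0 + x (1, 0) * 0 + x (1, 1) * 0 + x (2, 0) * 0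
      ring
    · show _ = x (0, 0) * 0 + x (0, 1) * 0 + x (0, 2) * 1 + x (1, 0) * 0 + x (1, 1) * 0 + x (2, 0) * 0
      ring
    · show _ = x (0, 0) * 0 + x (0, 1) * 0 + x (0, 2) * 0 + x (1, 0) * 1 + x (1, 1) * 0 + x (2, 0) * 0
      ring
    · show _ = x (0, 0) * 0 + x (0, 1) * 0 + x (0, 2) * 0 + x (1, 0) * 0 + x (1, 1) * 1 + x (2, 0) * 0
      ring
    · show _ = x (0, 0) * 1 + x (0, 1) * 1 + x (0, 2) * 1 + x (1, 0) * 2 + x (1, 1) * 2 + x (2, 0) * 0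
      linear_combination 2 * hc0 + 1 * hc1 + ((-1) * x (0, 0) + (-1) * x (0, 1) + (-1) * x (0, 2) + (-1) * x (1, 0) + (-1) * x (1, 1) + (-1) * s) * h3
    · show _ = x (0, 0) * 0 + x (0, 1) * 0 + x (0, 2) * 0 + x (1, 0) * 0 + x (1, 1) * 0 + x (2, 0) * 1
      ring
    · show _ = x (0, 0) * 0 + x (0, 1) * 2 + x (0, 2) * 1 + x (1, 0) * 2 + x (1, 1) * 1 + x (2, 0) * 1
      linear_combination 1 * hc0 + 2 * hc2 + 1 * ht02 + 2 * ht10 + ((-1) * x (0, 0) + (-1) * x (0, 1) + (-1) * x (0, 2) + (-1) * x (1, 0) + (-1) * x (1, 1) + (-1) * x (2, 0) + (-1) * x (2, 1) + (-1) * x (2, 2) + (-1) * x (3, 1)) * h3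
    · show _ = x (0, 0) * 1 + x (0, 1) * 2 + x (0, 2) * 0 + x (1, 0) * 1 + x (1, 1) * 2 + x (2, 0) * 1
      linear_combination 1 * hc0 + 2 * hc2 + 2 * ht02 + 1 * ht10 + ((-1) * x (0, 0) + (-1) * x (0, 1) + (-1) * x (0, 2) + (-1) * x (1, 0) + (-1) * x (1, 1) + (-1) * x (2, 0) + (-1) * x (2, 1) + (-1) * x (2, 2) + (-1) * x (3, 1)) * h3
    · show _ = x (0, 0) * 1 + x (0, 1) * 2 + x (0, 2) * 2 + x (1, 0) * 2 + x (1, 1) * 0 + x (2, 0) * 2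
      linear_combination 1 * hc0 + 1 * ht00 + ((-1) * x (0, 0) + (-1) * x (0, 1) + (-1) * x (0, 2) + (-1) * x (1, 0) + (-1) * x (2, 0)) * h3
    · show _ = x (0, 0) * 1 + x (0, 1) * 0 + x (0, 2) * 1 + x (1, 0) * 1 + x (1, 1) * 1 + x (2, 0) * 2
      linear_combination 1 * hc2 + 2 * ht02 + 2 * ht10 + ((-1) * x (0, 0) + (-1) * x (0, 2) + (-1) * x (1, 0) + (-1) * x (1, 1) + (-1) * x (2, 0) + (-1) * x (2, 1) + (-1) * x (2, 2) + (-1) * x (3, 1) + (1) * s) * h3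
    · show _ = x (0, 0) * 2 + x (0, 1) * 2 + x (0, 2) * 1 + x (1, 0) * 0 + x (1, 1) * 2 + x (2, 0) * 2
      linear_combination 1 * hc2 + 1 * ht01 + 2 * ht02 + 1 * ht10 + ((-1) * x (0, 0) + (-1) * x (0, 1) + (-1) * x (0, 2) + (-1) * x (1, 0) + (-1) * x (1, 1) + (-1) * x (2, 0) + (-1) * x (2, 1) + (-1) * x (2, 2) + (-1) * x (3, 1) + (1) * s) * h3
  exact (funext key).symm

theorem mem_tern {x : ArrayPt → ZMod 3} : x ∈ ternaryGolayCode ↔ ∃ a, enc a = x :=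
  ⟨fun h => ⟨_, enc_dec h⟩, fun ⟨a, h⟩ => h ▸ enc_mem a⟩

theorem tern_count (P : (ArrayPt → ZMod 3) → Prop) [DecidablePred fun a => P (enc a)] :
    {x | x ∈ ternaryGolayCode ∧ P x}.ncard = (univ.filter fun a => P (enc a)).card := by
  rw [← Set.ncard_coe_finset, ← Set.ncard_image_of_injective _ enc_inj]
  congr 1; ext x
  simp only [mem_tern, Set.mem_setOf_eq, Set.mem_image, coe_filter, mem_univ, true_and]
  exact ⟨fun ⟨⟨a, h⟩, h'⟩ => ⟨a, h ▸ h', h⟩, fun ⟨a, h, h'⟩ => ⟨⟨a, h'⟩, h' ▸ h⟩⟩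

theorem tern_wt' : ∀ a : Z6, a = (0, 0, 0, 0, 0, 0) ∨ (ternarySupport (enc a)).card = 6 ∨
    (ternarySupport (enc a)).card = 9 ∨ (ternarySupport (enc a)).card = 12 := by decide +kernel

theorem tern_wt {x : ArrayPt → ZMod 3} (hx : x ∈ ternaryGolayCode) (h0 : x ≠ 0) : (ternarySupport x).card = 6 ∨
    (ternarySupport x).card = 9 ∨ (ternarySupport x).card = 12 := by
  obtain ⟨a, rfl⟩ := mem_tern.mp hx
  refine (tern_wt' a).resolve_left ?_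
  rintro rfl; exact h0 (by decide)

theorem tern_264 : {x | x ∈ ternaryGolayCode ∧ (ternarySupport x).card = 6}.ncard = 264 := by
  rw [tern_count fun x => (ternarySupport x).card = 6]; decide +kernel

theorem mem_supp {x : ArrayPt → ZMod 3} {p : ArrayPt} : p ∈ ternarySupport x ↔ x p ≠ 0 := by
  simp [ternarySupport]

theorem pm_of_close {x y : ArrayPt → ZMod 3} (hx : x ∈ ternaryGolayCode) (hy : y ∈ ternaryGolayCode)
    (h1 : (ternarySupport x).card = 6) (h2 : (ternarySupport y).card = 6)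
    (h : 5 ≤ (ternarySupport x ∩ ternarySupport y).card) : y = x ∨ y = -x := by
  by_contra hn
  push Not at hn
  have a1 := tern_wt (sub_mem hy hx) (sub_ne_zero.mpr hn.1)
  have a2 := tern_wt (add_mem hy hx) (fun h => hn.2 (eq_neg_of_add_eq_zero_left h))
  have a3 := card_union_add_card_inter (ternarySupport (y - x)) (ternarySupport (y + x))
  have a4 := card_union_add_card_inter (ternarySupport x) (ternarySupport y)
  have a5 := card_sdiff_add_card_eq_card ((inter_subset_left (s₁ := ternarySupport x)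
    (s₂ := ternarySupport y)).trans (subset_union_left (s₂ := ternarySupport y)))
  have a6 : (ternarySupport (y - x) ∪ ternarySupport (y + x)).card ≤ (ternarySupport x ∪ ternarySupport y).card := by
    refine card_le_card fun p => ?_
    simp only [mem_union, mem_supp, Pi.sub_apply, Pi.add_apply]
    generalize x p = u; generalize y p = v; revert u v; decide
  have a7 : (ternarySupport (y - x) ∩ ternarySupport (y + x)).card ≤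
      ((ternarySupport x ∪ ternarySupport y) \ (ternarySupport x ∩ ternarySupport y)).card := by
    refine card_le_card fun p => ?_
    simp only [mem_union, mem_inter, mem_sdiff, mem_supp, Pi.sub_apply, Pi.add_apply]
    generalize x p = u; generalize y p = v; revert u v; decide
  omega

theorem supp_neg (x : ArrayPt → ZMod 3) : ternarySupport (-x) = ternarySupport x := by ext; simp [mem_supp]

abbrev Hex : Set (Finset ArrayPt) := {h | ∃ x ∈ ternaryGolayCode, ternarySupport x = h ∧ h.card = 6}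

theorem hex_st : IsSteinerSystem 5 6 Hex ∧ Hex.ncard = 132 := by
  classical
  let W : Finset (ArrayPt → ZMod 3) := univ.filter fun x => x ∈ ternaryGolayCode ∧ (ternarySupport x).card = 6
  have hW : W.card = 264 := by rw [← tern_264, ← Set.ncard_coe_finset]; congr 1; ext; simp [W]
  have mW : ∀ x, x ∈ W ↔ x ∈ ternaryGolayCode ∧ (ternarySupport x).card = 6 := by simp [W]
  have e : Hex = (W.image ternarySupport : Set _) := by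
    ext h; simp only [Set.mem_setOf_eq, coe_image, Set.mem_image, mem_coe, mW]
    exact ⟨fun ⟨x, h1, h2, h3⟩ => ⟨x, ⟨h1, h2 ▸ h3⟩, h2⟩, fun ⟨x, h1, h2⟩ => ⟨x, h1.1, h2, h2 ▸ h1.2⟩⟩
  have hc : (W.image ternarySupport).card = 132 := by
    have h1 := card_eq_sum_card_image ternarySupport W
    rw [sum_congr rfl (g := fun _ => 2), sum_const, hW, smul_eq_mul] at h1
    · omega
    · intro h hh
      obtain ⟨x, hx, rfl⟩ := mem_image.mp hh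
      rw [mW] at hx
      rw [card_eq_two]
      refine ⟨x, -x, fun h => ?_, ?_⟩
      · obtain ⟨p, hp⟩ : (ternarySupport x).Nonempty := card_pos.mp (by omega)
        have := congrFun h p
        rw [mem_supp] at hp
        rw [Pi.neg_apply] at this
        revert hp this; generalize x p = u; revert u; decide
      · ext y
        simp only [mem_filter, mW, mem_insert, mem_singleton]
        refine ⟨fun h => pm_of_close hx.1 h.1.1 hx.2 h.1.2 (by rw [h.2, inter_self]; omega), ?_⟩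
        rintro (rfl | rfl)
        · exact ⟨hx, rfl⟩
        · exact ⟨⟨neg_mem hx.1, by rw [supp_neg, hx.2]⟩, supp_neg x⟩
  rw [e, Set.ncard_coe_finset]
  refine ⟨st_of_count _ ?_ ?_ (by rw [hc]; decide), hc⟩
  · intro b hb; obtain ⟨x, hx, rfl⟩ := mem_image.mp hb; exact ((mW x).mp hx).2
  · intro b hb c hc' h
    obtain ⟨x, hx, rfl⟩ := mem_image.mp hb
    obtain ⟨y, hy, rfl⟩ := mem_image.mp hc'
    rw [mW] at hx hy
    by_contra h5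
    rcases pm_of_close hx.1 hy.1 hx.2 hy.2 (by omega) with rfl | rfl
    exacts [h rfl, h (supp_neg x).symm]

theorem tern_diag (c : ArrayPt → (ZMod 3)ˣ) (h : ∀ x ∈ ternaryGolayCode, monomialMap 1 c x ∈ ternaryGolayCode) :
    (∀ p, c p = 1) ∨ ∀ p, c p = -1 := by
  have key : ∀ p q, c p = c q := fun p q => by
    obtain ⟨s, hs, -, h5⟩ := exists_subsuperset_card_eq (n := 5) (subset_univ {p, q})
      (card_le_two.trans (by norm_num)) (by decide)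
    obtain ⟨_, ⟨⟨x, hx, rfl, h6⟩, h7⟩, -⟩ := hex_st.1.2 s h5
    have e : ternarySupport (monomialMap 1 c x) = ternarySupport x := by
      ext; simp [mem_supp, monomialMap, Perm.one_def]
    have hp := mem_supp.mp (h7 (hs (mem_insert_self p _)))
    have hq := mem_supp.mp (h7 (hs (mem_insert_of_mem (mem_singleton_self q))))
    refine Units.ext ?_
    rcases pm_of_close hx (h x hx) h6 (e ▸ h6) (by rw [e, inter_self]; omega) with h8 | h8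
    · have a1 : (c p : ZMod 3) * x p = 1 * x p := by rw [one_mul]; exact congrFun h8 p
      have a2 : (c q : ZMod 3) * x q = 1 * x q := by rw [one_mul]; exact congrFun h8 q
      rw [mul_right_cancel₀ hp a1, mul_right_cancel₀ hq a2]
    · have a1 : (c p : ZMod 3) * x p = -1 * x p := by rw [neg_one_mul]; exact congrFun h8 p
      have a2 : (c q : ZMod 3) * x q = -1 * x q := by rw [neg_one_mul]; exact congrFun h8 q
      rw [mul_right_cancel₀ hp a1, mul_right_cancel₀ hq a2]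
  have : ∀ u : (ZMod 3)ˣ, u = 1 ∨ u = -1 := by decide
  rcases this (c (0, 0)) with h1 | h1
  · exact Or.inl fun p => (key p _).trans h1
  · exact Or.inr fun p => (key p _).trans h1

theorem mon_le : Mon ternaryGolayCode ≤ setSystemAut Hex := by
  rintro σ ⟨c, hc⟩
  refine mem_aut_of ?_
  rintro _ ⟨x, hx, rfl, h6⟩
  refine ⟨_, hc x hx, ?_, by rw [card_smul_finset, h6]⟩
  ext p
  obtain ⟨q, rfl⟩ := σ.surjective p
  rw [show σ q ∈ σ • ternarySupport x ↔ q ∈ ternarySupport x from Finset.smul_mem_smul_finset_iff σ]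
  simp [mem_supp, monomialMap]

def dT : List (List ℕ × List (ZMod 3)) := [([0, 1, 2, 3, 4, 5, 6, 7, 8, 9, 10, 11], [1, 1, 1, 1, 1, 1, 1, 1, 1, 1, 1, 1]), ([1, 0, 2, 3, 4, 5, 11, 9, 10, 7, 8, 6], [1, 1, 1, 1, 1, 1, 1, 1, 1, 1, 1, 1]), ([2, 0, 1, 3, 4, 
5, 8, 6, 7, 10, 11, 9], [1, 1, 1, 1, 1, 1, 1, 1, 1, 1, 1, 1]), ([3, 0, 1, 2, 4, 5, 10, 7, 6, 8, 9, 11], [1, 2, 2, 1, 2, 2, 2, 1, 1, 2, 1, 1]), ([4, 0, 1, 2, 3, 5, 6, 9, 10, 11, 7, 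
8], [1, 2, 2, 1, 2, 2, 2, 1, 1, 2, 1, 1]), ([5, 0, 1, 2, 3, 4, 9, 6, 8, 7, 11, 10], [1, 2, 2, 1, 2, 2, 2, 1, 1, 2, 1, 1]), ([6, 0, 1, 2, 3, 9, 5, 4, 7, 10, 8, 11], [1, 2, 1, 2, 2, 
2, 2, 1, 1, 2, 1, 1]), ([7, 0, 1, 2, 3, 11, 10, 8, 9, 4, 5, 6], [1, 1, 2, 2, 2, 2, 2, 1, 1, 2, 1, 1]), ([8, 0, 1, 2, 3, 10, 7, 11, 4, 6, 9, 5], [1, 1, 1, 1, 2, 2, 2, 1, 1, 2, 1, 
1]), ([9, 0, 1, 2, 3, 6, 4, 5, 11, 8, 10, 7], [1, 2, 1, 2, 2, 2, 2, 1, 1, 2, 1, 1]), ([10, 0, 1, 2, 3, 8, 11, 7, 5, 9, 6, 4], [1, 1, 1, 1, 2, 2, 2, 1, 1, 2, 1, 1]), ([11, 0, 1, 2, 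
3, 7, 8, 10, 6, 5, 4, 9], [1, 1, 2, 2, 2, 2, 2, 1, 1, 2, 1, 1]), ([0, 1, 2, 3, 4, 5, 6, 7, 8, 9, 10, 11], [1, 1, 1, 1, 1, 1, 1, 1, 1, 1, 1, 1]), ([0, 2, 1, 3, 4, 5, 9, 10, 11, 6, 
7, 8], [1, 1, 1, 1, 1, 1, 1, 1, 1, 1, 1, 1]), ([0, 3, 1, 2, 4, 5, 11, 8, 9, 7, 6, 10], [1, 2, 1, 2, 1, 1, 2, 1, 2, 2, 2, 1]), ([0, 4, 1, 2, 3, 5, 8, 11, 7, 9, 10, 6], [1, 2, 1, 2, 
1, 1, 2, 1, 2, 2, 2, 1]), ([0, 5, 1, 2, 3, 4, 10, 7, 11, 6, 8, 9], [1, 2, 1, 2, 1, 1, 2, 1, 2, 2, 2, 1]), ([0, 6, 1, 2, 3, 9, 11, 10, 8, 4, 7, 5], [1, 2, 2, 1, 1, 1, 2, 1, 2, 2, 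
2, 1]), ([0, 7, 1, 2, 3, 11, 6, 4, 5, 8, 9, 10], [1, 1, 2, 2, 2, 2, 1, 2, 1, 1, 1, 2]), ([0, 8, 1, 2, 3, 10, 5, 6, 9, 11, 4, 7], [1, 1, 1, 1, 2, 2, 1, 2, 1, 1, 1, 2]), ([0, 9, 1, 
2, 3, 6, 7, 8, 10, 5, 11, 4], [1, 2, 2, 1, 1, 1, 2, 1, 2, 2, 2, 1]), ([0, 10, 1, 2, 3, 8, 4, 9, 6, 7, 5, 11], [1, 1, 1, 1, 2, 2, 1, 2, 1, 1, 1, 2]), ([0, 11, 1, 2, 3, 7, 9, 5, 4, 
10, 6, 8], [1, 1, 2, 2, 2, 2, 1, 2, 1, 1, 1, 2]), ([0, 1, 2, 3, 4, 5, 6, 7, 8, 9, 10, 11], [1, 1, 1, 1, 1, 1, 1, 1, 1, 1, 1, 1]), ([0, 1, 3, 2, 4, 5, 7, 6, 10, 11, 8, 9], [1, 1, 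
2, 2, 1, 1, 2, 2, 1, 2, 1, 2]), ([0, 1, 4, 2, 3, 5, 9, 10, 6, 8, 11, 7], [1, 1, 2, 2, 1, 1, 2, 2, 1, 2, 1, 2]), ([0, 1, 5, 2, 3, 4, 6, 8, 9, 10, 7, 11], [1, 1, 2, 2, 1, 1, 2, 2, 
1, 2, 1, 2]), ([0, 1, 6, 2, 3, 9, 4, 7, 5, 11, 10, 8], [1, 2, 2, 1, 1, 1, 2, 2, 1, 2, 1, 2]), ([0, 1, 7, 2, 3, 11, 8, 9, 10, 6, 4, 5], [1, 2, 1, 2, 2, 2, 1, 1, 2, 1, 2, 1]), ([0, 
1, 8, 2, 3, 10, 11, 4, 7, 5, 6, 9], [1, 1, 1, 1, 2, 2, 1, 1, 2, 1, 2, 1]), ([0, 1, 9, 2, 3, 6, 5, 11, 4, 7, 8, 10], [1, 2, 2, 1, 1, 1, 2, 2, 1, 2, 1, 2]), ([0, 1, 10, 2, 3, 8, 7, 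
5, 11, 4, 9, 6], [1, 1, 1, 1, 2, 2, 1, 1, 2, 1, 2, 1]), ([0, 1, 11, 2, 3, 7, 10, 6, 8, 9, 5, 4], [1, 2, 1, 2, 2, 2, 1, 1, 2, 1, 2, 1]), ([0, 1, 2, 3, 4, 5, 6, 7, 8, 9, 10, 11], 
[1, 1, 1, 1, 1, 1, 1, 1, 1, 1, 1, 1]), ([0, 1, 2, 4, 3, 5, 10, 9, 11, 7, 6, 8], [1, 1, 1, 1, 1, 1, 1, 1, 1, 1, 1, 1]), ([0, 1, 2, 5, 3, 4, 8, 6, 7, 11, 9, 10], [1, 1, 1, 1, 1, 1, 
1, 1, 1, 1, 1, 1]), ([0, 1, 2, 6, 3, 9, 7, 4, 10, 8, 5, 11], [1, 2, 2, 1, 1, 1, 1, 1, 1, 1, 1, 1]), ([0, 1, 2, 7, 3, 11, 9, 8, 4, 5, 10, 6], [1, 2, 1, 2, 2, 2, 2, 2, 2, 2, 2, 2]), 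
([0, 1, 2, 8, 3, 10, 4, 11, 6, 9, 7, 5], [1, 1, 2, 2, 2, 2, 2, 2, 2, 2, 2, 2]), ([0, 1, 2, 9, 3, 6, 11, 5, 8, 10, 4, 7], [1, 2, 2, 1, 1, 1, 1, 1, 1, 1, 1, 1]), ([0, 1, 2, 10, 3, 
8, 5, 7, 9, 6, 11, 4], [1, 1, 2, 2, 2, 2, 2, 2, 2, 2, 2, 2]), ([0, 1, 2, 11, 3, 7, 6, 10, 5, 4, 8, 9], [1, 2, 1, 2, 2, 2, 2, 2, 2, 2, 2, 2]), ([0, 1, 2, 3, 4, 5, 6, 7, 8, 9, 10, 
11], [1, 1, 1, 1, 1, 1, 1, 1, 1, 1, 1, 1]), ([0, 1, 2, 3, 5, 4, 9, 11, 10, 6, 8, 7], [1, 1, 1, 1, 1, 1, 1, 1, 1, 1, 1, 1]), ([0, 1, 2, 3, 6, 9, 5, 8, 11, 4, 7, 10], [1, 2, 2, 1, 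
1, 1, 1, 1, 1, 1, 1, 1]), ([0, 1, 2, 3, 7, 11, 10, 5, 6, 8, 9, 4], [1, 2, 1, 2, 2, 2, 2, 2, 2, 2, 2, 2]), ([0, 1, 2, 3, 8, 10, 7, 9, 5, 11, 4, 6], [1, 1, 2, 2, 2, 2, 2, 2, 2, 2, 
2, 2]), ([0, 1, 2, 3, 9, 6, 4, 10, 7, 5, 11, 8], [1, 2, 2, 1, 1, 1, 1, 1, 1, 1, 1, 1]), ([0, 1, 2, 3, 10, 8, 11, 6, 4, 7, 5, 9], [1, 1, 2, 2, 2, 2, 2, 2, 2, 2, 2, 2]), ([0, 1, 2, 
3, 11, 7, 8, 4, 9, 10, 6, 5], [1, 2, 1, 2, 2, 2, 2, 2, 2, 2, 2, 2])]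

def fT (d : List ℕ × List (ZMod 3)) (p : ArrayPt) : ArrayPt := ptA (d.1.getD (ixA p) 0)
def cT (d : List ℕ × List (ZMod 3)) (p : ArrayPt) : ZMod 3 := d.2.getD (ixA p) 0

theorem dT_ok : ∀ d ∈ dT, (∀ p q, fT d p = fT d q → p = q) ∧ (∀ p, cT d p ≠ 0) ∧
    ∀ k < 6, ∀ p, enc (dec fun p => cT d p * gT k (fT d p)) p = cT d p * gT k (fT d p) := by decide +kernel

theorem dT_mon : ∀ d ∈ dT, ∃ g ∈ Mon ternaryGolayCode, ∀ p, g p = fT d p := fun d hd => by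
  obtain ⟨h1, h2, h3⟩ := dT_ok d hd
  refine mem_Mon_of _ h1 _ h2 fun x hx => ?_
  obtain ⟨a, rfl⟩ := mem_tern.mp hx
  exact comb_mem _ _ (fun k hk => mem_tern.mpr ⟨_, funext (h3 k hk)⟩) a

theorem sift_T (L : List ArrayPt) (x : ArrayPt)
    (h : x ∉ L ∧ ∀ y ∉ L, ∃ d ∈ dT, (∀ z ∈ L, fT d z = z) ∧ fT d x = y)
    (ih : ∀ σ ∈ setSystemAut Hex, (∀ z ∈ x :: L, σ z = z) → σ ∈ Mon ternaryGolayCode) :
    ∀ σ ∈ setSystemAut Hex, (∀ z ∈ L, σ z = z) → σ ∈ Mon ternaryGolayCode :=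
  sift_step L x h.1 (fun y hy => by
    obtain ⟨d, hd, h1, h2⟩ := h.2 y hy
    obtain ⟨g, hg, h3⟩ := dT_mon d hd
    exact ⟨g, hg, mon_le hg, fun z hz => (h3 z).trans (h1 z hz), (h3 x).trans h2⟩) ih

theorem mon_eq : Mon ternaryGolayCode = setSystemAut Hex := by
  refine le_antisymm mon_le fun σ hσ => ?_
  refine sift_T [] (0, 0) (by decide +kernel) (sift_T _ (0, 1) (by decide +kernel) (sift_T _ (0, 2)
    (by decide +kernel) (sift_T _ (1, 0) (by decide +kernel) (sift_T _ (1, 1) (by decide +kernel) ?_)))) σ hσ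
    (by simp)
  intro τ hτ h
  rw [sharp12 (by decide) hex_st.1 ⟨![(1, 1), (1, 0), (0, 2), (0, 1), (0, 0)], by decide⟩ hτ fun i => h _ (by
    revert i; decide)]
  exact one_mem _

end Cfsg.Agent.Steiner
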