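import Cfsg.Agent.Lib.Steiner.Count
import Cfsg.Agent.Lib.Spor.Trans

/-! Uniqueness of the binary Golay code by a checked chain of normalisations. -/

set_option autoImplicit false
set_option linter.unusedSectionVars false
set_option linter.unusedVariables false

namespace Cfsg.Agent.Steiner

open Finset Cfsg.Agent.Spor Cfsg.Agent.PC
open scoped Pointwise symmDiff

theorem exists_perm_of_fib {X L : Type*} [Fintype X] [DecidableEq X] [DecidableEq L] (lab : X → L)
    (c g : Finset X) (h : ∀ l, (c.filter (lab · = l)).card = (g.filter (lab · = l)).card) :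
    ∃ σ : Equiv.Perm X, (∀ x, lab (σ x) = lab x) ∧ σ • c = g := by
  have key : ∀ (c : Finset X) (l : L) (b : Bool),
      Fintype.card {x // (lab x, decide (x ∈ c)) = (l, b)} =
        if b then (c.filter (lab · = l)).card else
          (univ.filter (lab · = l)).card - (c.filter (lab · = l)).card := by
    intro c l b
    rw [Fintype.card_subtype]
    cases b
    · have := card_filter_add_card_filter_not (s := univ.filter (lab · = l)) (fun x => x ∈ c)
      have e1 : (univ.filter (lab · = l)).filter (fun x => x ∈ c) = c.filter (lab · = l) := by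
        ext x; simp [and_comm]
      have e2 : (univ.filter (lab · = l)).filter (fun x => ¬ x ∈ c) =
          univ.filter (fun x => (lab x, decide (x ∈ c)) = (l, false)) := by
        ext x; simp
      rw [e1, e2] at this
      simp only [Bool.false_eq_true, if_false]; omega
    · simp only [if_true]; congr 1; ext x; simp [and_comm]
  let e : ∀ y : L × Bool, {x // (lab x, decide (x ∈ c)) = y} ≃ {x // (lab x, decide (x ∈ g)) = y} :=
    fun y => Fintype.equivOfCardEq (by rw [key c y.1 y.2, key g y.1 y.2, h])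
  have he := Equiv.ofFiberEquiv_map e
  refine ⟨Equiv.ofFiberEquiv e, fun x => congrArg Prod.fst (he x), ?_⟩
  ext y
  obtain ⟨x, rfl⟩ := (Equiv.ofFiberEquiv e).surjective y
  have := congrArg Prod.snd (he x)
  simp only [decide_eq_decide] at this
  rw [this]
  exact Finset.smul_mem_smul_finset_iff (Equiv.ofFiberEquiv e : Equiv.Perm X)

theorem card_symmDiff' {α : Type*} [DecidableEq α] (s t : Finset α) :
    (s ∆ t).card + 2 * (s ∩ t).card = s.card + t.card := by
  have h1 := card_sdiff_add_card_inter s t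
  have h2 := card_sdiff_add_card_inter t s
  rw [symmDiff_def, sup_eq_union, card_union_of_disjoint disjoint_sdiff_sdiff, inter_comm t s] at *
  omega

theorem even_symmDiff {α : Type*} [DecidableEq α] {a b c : Finset α} (h1 : Even (a ∩ c).card)
    (h2 : Even (b ∩ c).card) : Even ((a ∆ b) ∩ c).card := by
  have e : (a ∆ b) ∩ c = (a ∩ c) ∆ (b ∩ c) := inf_symmDiff_distrib_right a b c
  have := card_symmDiff' (a ∩ c) (b ∩ c)
  rw [e]; rw [Nat.even_iff] at *; omega

/-- `0` if `a = 0`, else `b` (lazily) -/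
noncomputable def andE (a b : ℕ) : ℕ := Nat.rec (nat_lit 0) (fun _ _ => b) a

theorem andE_zero {a b : ℕ} (h : andE a b = 0) : a = 0 ∨ b = 0 := by
  cases a
  · exact Or.inl rfl
  · exact Or.inr h

/-- compare the numbers of points of `c` and `g` in the atoms of `P` inside `m` -/
noncomputable def eqA (c g : ℕ) (P : List ℕ) : ℕ → ℕ :=
  List.rec (motive := fun _ => ℕ → ℕ) (fun m => Nat.xor (pop (Nat.land c m)) (pop (Nat.land g m)))
    (fun p _ ih m => frc m fun m => andE m
      (Nat.add (ih (Nat.land m p)) (ih (Nat.land m (Nat.xor p (nat_lit 16777215)))))) P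

def labP (P : List ℕ) (x : GolayPt) : List Bool := P.map fun p => decide (x ∈ bset p)

theorem eqA_zero {c g : ℕ} (P : List ℕ) : ∀ m, eqA c g P m = 0 → ∀ l,
    ((bset c ∩ bset m).filter (labP P · = l)).card = ((bset g ∩ bset m).filter (labP P · = l)).card := by
  induction P with
  | nil =>
    intro m h l
    have h' : pop (c &&& m) = pop (g &&& m) := xor_eq_zero' h
    rw [← card_bset, ← card_bset, bset_and, bset_and] at h'
    by_cases hl : l = []
    · subst hl; simpa [labP] using h'
    · simp [labP, Ne.symm hl]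
  | cons p P ih =>
    intro m h l
    have h' : andE m (Nat.add (eqA c g P (m &&& p)) (eqA c g P (m &&& (p ^^^ 16777215)))) = 0 := by
      rw [← h]; exact (frc_eq m fun m => andE m
        (Nat.add (eqA c g P (m &&& p)) (eqA c g P (m &&& (p ^^^ 16777215))))).symm
    rcases andE_zero h' with h0 | h0
    · subst h0; simp [bset_zero]
    · obtain ⟨h1, h2⟩ := add_eq_zero' h0
      cases l with
      | nil => simp [labP]
      | cons b l =>
        have e : ∀ c : ℕ, (bset c ∩ bset m).filter (labP (p :: P) · = b :: l) =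
            (bset c ∩ bset (m &&& (if b then p else p ^^^ 16777215))).filter (labP P · = l) := by
          intro c; ext x
          cases b <;> simp [labP, bset_and, bset_compl] <;> tauto
        rw [e, e]
        cases b
        · exact ih _ h2 l
        · exact ih _ h1 l

theorem exists_perm_eqA {c g : ℕ} {P : List ℕ} (h : eqA c g P 16777215 = 0) :
    ∃ σ : Equiv.Perm GolayPt, (∀ p ∈ P, σ • bset p = bset p) ∧ σ • bset c = bset g := by
  have h1 := eqA_zero P _ h
  simp only [bset_all, inter_univ] at h1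
  obtain ⟨σ, h2, h3⟩ := exists_perm_of_fib (labP P) _ _ h1
  refine ⟨σ, fun p hp => ?_, h3⟩
  ext y
  obtain ⟨x, rfl⟩ := σ.surjective y
  have h4 := h2 x
  simp only [labP, List.map_inj_left, decide_eq_decide] at h4
  rw [h4 p hp]
  exact Finset.smul_mem_smul_finset_iff σ

/-- lazy product: `0` iff some `f i`, `i < n`, vanishes -/
noncomputable def exE (f : ℕ → ℕ) (n : ℕ) : ℕ := Nat.rec (nat_lit 1) (fun i ih => andE (f i) ih) n

theorem exE_zero {f : ℕ → ℕ} {n : ℕ} (h : exE f n = 0) : ∃ i < n, f i = 0 := by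
  induction n with
  | zero => exact absurd h (by decide : (1 : ℕ) ≠ 0)
  | succ n ih =>
    rcases andE_zero (show andE (f n) (exE f n) = 0 from h) with h | h
    · exact ⟨n, by omega, h⟩
    · obtain ⟨i, hi, h⟩ := ih h; exact ⟨i, by omega, h⟩

/-- `0` iff some member of the list is killed by `f` -/
noncomputable def exL (f : ℕ → ℕ) (P : List ℕ) : ℕ :=
  List.rec (nat_lit 1) (fun p _ ih => andE (f p) ih) P

theorem exL_zero {f : ℕ → ℕ} {P : List ℕ} (h : exL f P = 0) : ∃ p ∈ P, f p = 0 := by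
  induction P with
  | nil => exact absurd h (by decide : (1 : ℕ) ≠ 0)
  | cons p P ih =>
    rcases andE_zero (show andE (f p) (exL f P) = 0 from h) with h | h
    · exact ⟨p, List.mem_cons_self, h⟩
    · obtain ⟨i, hi, h⟩ := ih h; exact ⟨i, List.mem_cons_of_mem _ hi, h⟩

/-- abstract Golay code, as a family of subsets -/
structure Gol {α : Type*} [DecidableEq α] (C : Set (Finset α)) : Prop where
  emp : ∅ ∈ C
  xor : ∀ a ∈ C, ∀ b ∈ C, a ∆ b ∈ C
  ev : ∀ a ∈ C, ∀ b ∈ C, Even (a ∩ b).card
  no4 : ∀ a ∈ C, a.card ≠ 4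
  st : ∀ s : Finset α, s.card = 5 → ∃ o ∈ C, o.card = 8 ∧ s ⊆ o

theorem image_symmDiff' {α β : Type*} [DecidableEq α] [DecidableEq β] (e : α ≃ β) (s t : Finset α) :
    (s ∆ t).image e = s.image e ∆ t.image e := image_symmDiff s t e.injective

theorem Gol.comap {α β : Type*} [DecidableEq α] [DecidableEq β] {C : Set (Finset β)} (h : Gol C) (e : α ≃ β) :
    Gol {a : Finset α | a.image e ∈ C} where
  emp := by simpa using h.emp
  xor a ha b hb := by
    show _ ∈ C
    rw [image_symmDiff']; exact h.xor _ ha _ hb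
  ev a ha b hb := by
    have := h.ev _ ha _ hb
    rwa [← image_inter _ _ e.injective, card_image_of_injective _ e.injective] at this
  no4 a ha := by
    have := h.no4 _ ha
    rwa [card_image_of_injective _ e.injective] at this
  st s hs := by
    obtain ⟨o, ho, h8, hso⟩ := h.st (s.image e) (by rw [card_image_of_injective _ e.injective, hs])
    refine ⟨o.image e.symm, ?_, by rw [card_image_of_injective _ e.symm.injective, h8], fun x hx => ?_⟩
    · show _ ∈ C
      simpa [image_image] using ho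
    · exact mem_image.mpr ⟨e x, hso (mem_image_of_mem _ hx), by simp⟩

theorem smul_eq_image (σ : Equiv.Perm GolayPt) (a : Finset GolayPt) : σ • a = a.image σ := rfl

def Ext (P : List ℕ) : Prop := ∀ C : Set (Finset GolayPt), Gol C → (∀ p ∈ P, bset p ∈ C) →
  ∃ σ : Equiv.Perm GolayPt, ∀ b ∈ gBasis, σ • bset b ∈ C

theorem Gol.sel_mem {C : Set (Finset GolayPt)} (h : Gol C) {P : List ℕ} (hP : ∀ p ∈ P, bset p ∈ C) (k : ℕ) :
    bset (sel P k) ∈ C :=
  sel_induction (P := fun n => bset n ∈ C) (by rw [bset_zero]; exact h.emp)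
    (fun a b ha hb => by rw [bset_xor]; exact h.xor _ ha _ hb) P hP k

noncomputable def candE (P : List ℕ) (N g c : ℕ) : ℕ := frc c fun c =>
  andE (eqI (pop c) (nat_lit 8)) (andE (exL (fun p => Nat.xor (Nat.land (pop (Nat.land c p)) (nat_lit 1)) (nat_lit 1)) P)
    (andE (eqA c g P (nat_lit 16777215)) (exE (fun k => Nat.xor (pop (Nat.xor c (sel P k))) (nat_lit 4)) N)))

noncomputable def stepE (P : List ℕ) (N g s : ℕ) : ℕ :=
  Nat.add (Nat.xor (pop s) (nat_lit 5)) (lin (fun z => lin (fun y => lin (fun x => candE P N g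
    (Nat.lor (Nat.lor (Nat.lor s (Nat.shiftLeft (nat_lit 1) x)) (Nat.shiftLeft (nat_lit 1) y))
      (Nat.shiftLeft (nat_lit 1) z))) (nat_lit 0) y) (nat_lit 0) z) (nat_lit 0) (nat_lit 24))

theorem lin_zero {f : ℕ → ℕ} {n : ℕ} (h : lin f 0 n = 0) : ∀ i < n, f i = 0 := by
  intro i hi
  rw [lin_eq, Finset.sum_eq_zero_iff] at h
  simpa using h i (by simpa using hi)

theorem bset_shl {i : ℕ} (h : i < 24) : bset (Nat.shiftLeft 1 i) = {gp i} := by
  rw [← bset_pow' h]; congr 1; exact Nat.one_shiftLeft i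

theorem three_sorted {o : Finset GolayPt} (h : o.card = 3) :
    ∃ x y z, x < y ∧ y < z ∧ z < 24 ∧ o = {gp x} ∪ {gp y} ∪ {gp z} := by
  obtain ⟨a, b, c, hab, hac, hbc, rfl⟩ := card_eq_three.mp h
  obtain ⟨x, hx, rfl⟩ := exists_gp a
  obtain ⟨y, hy, rfl⟩ := exists_gp b
  obtain ⟨z, hz, rfl⟩ := exists_gp c
  have h1 : x ≠ y := fun h => hab (by rw [h])
  have h2 : x ≠ z := fun h => hac (by rw [h])
  have h3 : y ≠ z := fun h => hbc (by rw [h])
  rcases lt_or_gt_of_ne h1 with h1 | h1 <;> rcases lt_or_gt_of_ne h2 with h2 | h2 <;>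
    rcases lt_or_gt_of_ne h3 with h3 | h3
  · exact ⟨x, y, z, h1, h3, hz, by ext; simp⟩
  · exact ⟨x, z, y, h2, h3, hy, by ext; simp; tauto⟩
  · omega
  · exact ⟨z, x, y, h2, h1, hy, by ext; simp; tauto⟩
  · exact ⟨y, x, z, h1, h2, hz, by ext; simp; tauto⟩
  · omega
  · exact ⟨y, z, x, h3, h2, hx, by ext; simp; tauto⟩
  · exact ⟨z, y, x, h3, h1, hx, by ext; simp; tauto⟩

theorem ext_step {P : List ℕ} {N g s : ℕ} (h : stepE P N g s = 0) (hE : Ext (g :: P)) : Ext P := by
  intro C hC hP
  obtain ⟨h5, h⟩ := add_eq_zero' h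
  obtain ⟨o, ho, h8, hso⟩ := hC.st (bset s) (by rw [card_bset]; exact xor_eq_zero' h5)
  have h5' : (bset s).card = 5 := by rw [card_bset]; exact xor_eq_zero' h5
  obtain ⟨x, y, z, hxy, hyz, hz, e⟩ := three_sorted (o := o \ bset s) (by rw [card_sdiff_of_subset hso]; omega)
  have h1 := lin_zero (lin_zero (lin_zero h z hz) y hyz) x hxy
  set c := Nat.lor (Nat.lor (Nat.lor s (Nat.shiftLeft 1 x)) (Nat.shiftLeft 1 y)) (Nat.shiftLeft 1 z) with hc
  have hco : bset c = o := by
    have : c = s ||| Nat.shiftLeft 1 x ||| Nat.shiftLeft 1 y ||| Nat.shiftLeft 1 z := rfl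
    rw [this, bset_or, bset_or, bset_or, bset_shl (by omega), bset_shl (by omega), bset_shl hz,
      union_assoc, union_assoc, ← union_assoc {gp x}, ← e, union_sdiff_of_subset hso]
  rw [candE, frc_eq] at h1
  rcases andE_zero h1 with h1 | h1
  · rw [eqI_eq, ← card_bset, hco, h8] at h1; simp at h1
  rcases andE_zero h1 with h1 | h1
  · obtain ⟨p, hp, h1⟩ := exL_zero h1
    have h2 : pop (c &&& p) &&& 1 = 1 := xor_eq_zero' h1
    rw [Nat.and_one_is_mod, ← card_bset, bset_and, hco] at h2
    have := Nat.even_iff.mp (hC.ev _ ho _ (hP p hp))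
    omega
  rcases andE_zero h1 with h1 | h1
  · obtain ⟨σ, h2, h3⟩ := exists_perm_eqA h1
    obtain ⟨τ, hτ⟩ := hE {a | a.image σ.symm ∈ C} (hC.comap σ.symm) (by
      intro p hp
      show σ⁻¹ • bset p ∈ C
      rcases List.mem_cons.mp hp with rfl | hp
      · rw [← h3, inv_smul_smul, hco]; exact ho
      · rw [← h2 p hp, inv_smul_smul]; exact hP p hp)
    exact ⟨σ⁻¹ * τ, fun b hb => by rw [mul_smul]; exact hτ b hb⟩
  · obtain ⟨k, -, h1⟩ := exE_zero h1
    have h2 : pop (c ^^^ sel P k) = 4 := xor_eq_zero' h1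
    rw [← card_bset, bset_xor, hco] at h2
    exact absurd h2 (hC.no4 _ (hC.xor _ ho _ (hC.sel_mem hP k)))

def chP : List ℕ := [10825794, 351362, 797449, 7340691, 201013, 10687016, 6429441, 1103886, 3328320,
  13703682, 13667400, 11654144]

theorem ext12 : Ext chP := by
  intro C hC hP
  refine ⟨1, fun b hb => ?_⟩
  have : gBasis = [2810, 1534, 3201, 68, 1294, 3617, 1535, 1095, 3396, 3653, 2048, 2491].map (sel chP) := by
    decide +kernel
  rw [this] at hb
  obtain ⟨k, -, rfl⟩ := List.mem_map.mp hb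
  rw [one_smul]
  exact hC.sel_mem hP k

theorem beq0 {a : ℕ} (h : Nat.beq a (nat_lit 0) = true) : a = 0 := Nat.eq_of_beq_eq_true h

theorem ext0 : Ext [] :=
  ext_step (N := 1) (s := 1164288) (beq0 (by decide +kernel)) <|
  ext_step (N := 2) (s := 12618752) (beq0 (by decide +kernel)) <|
  ext_step (N := 4) (s := 13701120) (beq0 (by decide +kernel)) <|
  ext_step (N := 8) (s := 3194944) (beq0 (by decide +kernel)) <|
  ext_step (N := 16) (s := 1099784) (beq0 (by decide +kernel)) <|
  ext_step (N := 32) (s := 4201216) (beq0 (by decide +kernel)) <|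
  ext_step (N := 64) (s := 10555400) (beq0 (by decide +kernel)) <|
  ext_step (N := 1) (s := 135457) (beq0 (by decide +kernel)) <|
  ext_step (N := 1) (s := 5243409) (beq0 (by decide +kernel)) <|
  ext_step (N := 1) (s := 526601) (beq0 (by decide +kernel)) <|
  ext_step (N := 1) (s := 89088) (beq0 (by decide +kernel)) <|
  ext_step (N := 1) (s := 8458306) (beq0 (by decide +kernel)) ext12

theorem even_gC {a b : Finset GolayPt} (ha : a ∈ gC) (hb : b ∈ gC) : Even (a ∩ b).card := by
  have h1 := card_symmDiff' a b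
  have h2 := card_of_mem_gC ha
  have h3 := card_of_mem_gC hb
  have h4 := card_of_mem_gC (symmDiff_mem_gC ha hb)
  rw [Nat.even_iff]; omega

theorem basis_mem : ∀ b ∈ gBasis, bset b ∈ gC := fun b hb => by
  rw [← support_wd]; exact support_mem_gC.mpr (wd_basis b hb)

theorem basis_oct : ∀ b ∈ gBasis, bset b ∈ octads := fun b hb =>
  bset_oct (by revert b; decide +kernel)

theorem dual_chk : ∀ j < 4096, andE j (exL (fun p => Nat.xor (Nat.land (pop (Nat.land
    (Nat.shiftLeft j (nat_lit 12)) p)) (nat_lit 1)) (nat_lit 1)) gBasis) = 0 :=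
  upTo_beq (by decide +kernel)

/-- the Golay code is self-dual -/
theorem mem_gC_of_even {a : Finset GolayPt} (h : ∀ b ∈ gBasis, Even (a ∩ bset b).card) : a ∈ gC := by
  obtain ⟨n, hn, rfl⟩ := exists_bset a
  have hk := and_lt n
  set k := n &&& 4095 with hk'
  set m := n ^^^ cw k with hm
  have hm1 : m < 2 ^ 24 := Nat.xor_lt_two_pow hn (cw_lt hk)
  have hm2 : m &&& 4095 = 0 := by rw [hm, Nat.and_xor_distrib_right, cw_and hk, ← hk', Nat.xor_self]
  have hj : m >>> 12 < 4096 := by rw [Nat.shiftRight_eq_div_pow]; omega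
  have hm3 : Nat.shiftLeft (m >>> 12) 12 = m := by
    have : m &&& 4095 = m % 2 ^ 12 := Nat.and_two_pow_sub_one_eq_mod m 12
    show (m >>> 12) <<< 12 = m
    rw [Nat.shiftLeft_eq, Nat.shiftRight_eq_div_pow]; omega
  rcases andE_zero (dual_chk _ hj) with h0 | h0
  · have : m = 0 := by rw [← hm3, h0]; rfl
    have h2 : n = cw k := xor_eq_zero' this
    rw [h2]; exact cwd_mem hk
  · obtain ⟨p, hp, h1⟩ := exL_zero h0
    have h2 : pop (Nat.shiftLeft (m >>> 12) 12 &&& p) &&& 1 = 1 := xor_eq_zero' h1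
    rw [hm3, Nat.and_one_is_mod, ← card_bset, bset_and, hm, bset_xor] at h2
    have := Nat.even_iff.mp (even_symmDiff (h p hp) (even_gC (cwd_mem hk) (basis_mem p hp)))
    rw [cwd] at this
    omega

theorem gC_subset {C : Set (Finset GolayPt)} (h0 : ∅ ∈ C) (hx : ∀ a ∈ C, ∀ b ∈ C, a ∆ b ∈ C)
    (h : ∀ b ∈ gBasis, bset b ∈ C) : gC ⊆ C := by
  intro s hs
  obtain ⟨k, hk, rfl⟩ := exists_cwd hs
  rw [cwd, cw_eq_sel hk]
  exact sel_induction (P := fun n => bset n ∈ C) (by rw [bset_zero]; exact h0)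
    (fun a b ha hb => by rw [bset_xor]; exact hx _ ha _ hb) _ h k

/-- uniqueness of the Golay code -/
theorem Gol.unique {α : Type*} [Fintype α] [DecidableEq α] (hα : Fintype.card α = 24) {C : Set (Finset α)}
    (h : Gol C) : ∃ e : α ≃ GolayPt, ∀ a, a ∈ C ↔ a.image e ∈ gC := by
  let e : GolayPt ≃ α := Fintype.equivOfCardEq (by rw [hα, card_golayPt])
  obtain ⟨σ, hσ⟩ := ext0 _ (h.comap e) (by simp)
  have h2 := h.comap (σ.trans e)
  have h3 : ∀ b ∈ gBasis, bset b ∈ {a : Finset GolayPt | a.image (σ.trans e) ∈ C} := fun b hb => by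
    have := hσ b hb
    simpa [smul_eq_image, image_image] using this
  refine ⟨(σ.trans e).symm, fun a => ⟨fun ha => ?_, fun ha => ?_⟩⟩
  · refine mem_gC_of_even fun b hb => h2.ev _ ?_ _ (h3 b hb)
    show image _ (image _ a) ∈ C
    rw [image_image, Equiv.self_comp_symm, image_id]; exact ha
  · have : image _ (image _ a) ∈ C := gC_subset h2.emp h2.xor h3 ha
    rwa [image_image, Equiv.self_comp_symm, image_id] at this

end Cfsg.Agent.Steiner
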